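import Cfsg.Agent.H804.IF.P4A

/-!
# S5719, `PSp_4(q)`, `q` odd: `A` contains an involution of type `t₁`, conclusion (helper804)
-/

set_option autoImplicit false
set_option linter.unusedSectionVars false
set_option linter.unusedSimpArgs false

namespace Cfsg.Agent.H804.P4

open Subgroup Module Cfsg.Agent.H74.Psp Cfsg.Agent.H209.Fxy

section

variable {F V T : Type*} [Field F] [Finite F] [AddCommGroup V] [Module F V] [Finite V] [Group T] [Finite T]
  {B : V →ₗ[F] V →ₗ[F] F} {π : Sp B →* T} {A : Subgroup T}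

theorem move1 (C : Ctx π) {x y b : V} (h1 : ∀ c, π (t B (x + b) c) ∈ A) (h2 : ∀ c, π (t B (y - x) c) ∈ A)
    (hxy : B x y ≠ 0) (hx : B x b = 0) (hy : B y b = 0) (c : F) : π (t B (y + b) c) ∈ A := by
  have e1 : t B (y - x) (B x y)⁻¹ • (x + b) = y + b := by
    rw [t_smul C.hB]
    simp only [map_add, map_sub, LinearMap.add_apply, C.hB.alt, orth_symm C.hB hx, orth_symm C.hB hy]
    rw [add_zero, add_zero, sub_zero, inv_mul_cancel₀ hxy]
    module
  rw [← e1, ← conj_t C.hB, map_mul, map_mul, map_inv]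
  exact A.mul_mem (A.mul_mem (h2 _) (h1 _)) (A.inv_mem (h2 _))

theorem move2 (C : Ctx π) {v v' b : V} (h : B v v' = 1) (hP : ∀ a b c : F, π (t B (a • v + b • v') c) ∈ A)
    (h1 : B v b = 0) (h2 : B v' b = 0) {α β γ δ : F} (hx : ¬ (α = 0 ∧ β = 0)) (hy : ¬ (γ = 0 ∧ δ = 0))
    (hb : ∀ c, π (t B (α • v + β • v' + b) c) ∈ A) (c : F) : π (t B (γ • v + δ • v' + b) c) ∈ A := by
  have hv'v : B v' v = -1 := by rw [skew C.hB, h]
  have hor : ∀ a d : F, B (a • v + d • v') b = 0 := by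
    intro a d
    simp only [map_add, LinearMap.map_smul, LinearMap.add_apply, LinearMap.smul_apply, h1, h2, smul_zero, add_zero]
  have hBB : ∀ a d a' d' : F, B (a • v + d • v') (a' • v + d' • v') = a * d' - d * a' := by
    intro a d a' d'
    simp only [map_add, LinearMap.map_smul, LinearMap.add_apply, LinearMap.smul_apply, smul_eq_mul, C.hB.alt, h,
      hv'v]
    ring
  have hsub : ∀ a d a' d' c : F, π (t B (a' • v + d' • v' - (a • v + d • v')) c) ∈ A := by
    intro a d a' d' c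
    have e1 : a' • v + d' • v' - (a • v + d • v') = (a' - a) • v + (d' - d) • v' := by module
    rw [e1]
    exact hP _ _ _
  have step : ∀ a d a' d' : F, a * d' - d * a' ≠ 0 → (∀ c, π (t B (a • v + d • v' + b) c) ∈ A) →
      ∀ c, π (t B (a' • v + d' • v' + b) c) ∈ A := by
    intro a d a' d' hne hA c
    exact move1 C hA (hsub a d a' d') (by rw [hBB]; exact hne) (hor _ _) (hor _ _) c
  by_cases h0 : α * δ - β * γ = 0
  · by_cases hβ : β = 0
    · have hα : α ≠ 0 := fun h => hx ⟨h, hβ⟩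
      rw [hβ, zero_mul, sub_zero] at h0
      have hδ : δ = 0 := (mul_eq_zero.1 h0).resolve_left hα
      have hγ : γ ≠ 0 := fun h => hy ⟨h, hδ⟩
      refine step 0 1 γ δ ?_ (step α β 0 1 ?_ hb) c
      · rw [zero_mul, one_mul, zero_sub]
        exact neg_ne_zero.2 hγ
      · rw [mul_one, mul_zero, sub_zero]
        exact hα
    · have hδ : δ ≠ 0 := by
        intro hδ
        rw [hδ, mul_zero, zero_sub, neg_eq_zero] at h0
        exact hy ⟨(mul_eq_zero.1 h0).resolve_left hβ, hδ⟩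
      refine step 1 0 γ δ ?_ (step α β 1 0 ?_ hb) c
      · rw [one_mul, zero_mul, sub_zero]
        exact hδ
      · rw [mul_zero, mul_one, zero_sub]
        exact neg_ne_zero.2 hβ
  · exact step α β γ δ h0 hb c

end

/-- **The case of an involution of type `t₁`.** -/
theorem caseA : CaseA := by
  intro F V T _ _ _ _ _ _ _ _ B π C A Γ hIF v v' h hmem
  obtain ⟨u, u', hu, h1, h2, h3, h4⟩ := exists_orth C.hB C.hV h
  have hu' : π (inv2 B u u') = π (inv2 B v v') := by
    rw [inv2_eq C.hB C.hV h hu h1 h2 h3 h4, map_mul, C.neg, one_mul]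
  have P1 : ∀ a b c : F, π (t B (a • v + b • v') c) ∈ A := tv_mem C hIF h hmem
  have P2 : ∀ a b c : F, π (t B (a • u + b • u') c) ∈ A := tv_mem C hIF hu (by rw [hu']; exact hmem)
  obtain ⟨w, w', hw, hwA, hne⟩ := exists_second C hIF h hmem
  have P3 : ∀ a b c : F, π (t B (a • w + b • w') c) ∈ A := tv_mem C hIF hw hwA
  have P3w : ∀ c, π (t B w c) ∈ A := fun c => by
    have := P3 1 0 c
    rwa [one_smul, zero_smul, add_zero] at this
  have P3w' : ∀ c, π (t B w' c) ∈ A := fun c => by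
    have := P3 0 1 c
    rwa [one_smul, zero_smul, zero_add] at this
  have huv : B u v = 0 := orth_symm C.hB h1
  have hu'v : B u' v = 0 := orth_symm C.hB h2
  have huv' : B u v' = 0 := orth_symm C.hB h3
  have hu'v' : B u' v' = 0 := orth_symm C.hB h4
  -- a mixed vector
  obtain ⟨α, β, γ, δ, hαβ, hγδ, hP⟩ : ∃ α β γ δ : F, ¬ (α = 0 ∧ β = 0) ∧ ¬ (γ = 0 ∧ δ = 0) ∧
      ∀ c, π (t B (α • v + β • v' + (γ • u + δ • u')) c) ∈ A := by
    obtain ⟨a, b, c, d, hwe⟩ := four C.hB C.hV h hu h1 h2 h3 h4 w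
    obtain ⟨a', b', c', d', hwe'⟩ := four C.hB C.hV h hu h1 h2 h3 h4 w'
    by_cases k1 : ¬ (a = 0 ∧ b = 0) ∧ ¬ (c = 0 ∧ d = 0)
    · refine ⟨a, b, c, d, k1.1, k1.2, ?_⟩
      rwa [← add_assoc, ← hwe]
    by_cases k2 : ¬ (a' = 0 ∧ b' = 0) ∧ ¬ (c' = 0 ∧ d' = 0)
    · refine ⟨a', b', c', d', k2.1, k2.2, ?_⟩
      rwa [← add_assoc, ← hwe']
    exfalso
    have k1' : (a = 0 ∧ b = 0) ∨ (c = 0 ∧ d = 0) := by tauto
    have k2' : (a' = 0 ∧ b' = 0) ∨ (c' = 0 ∧ d' = 0) := by tauto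
    have hww := hw
    rcases k1' with ⟨ra, rb⟩ | ⟨rc, rd⟩ <;> rcases k2' with ⟨ra', rb'⟩ | ⟨rc', rd'⟩
    · -- both in `⟨u,u'⟩`
      rw [ra, rb, zero_smul, zero_smul, zero_add, zero_add] at hwe
      rw [ra', rb', zero_smul, zero_smul, zero_add, zero_add] at hwe'
      apply hne
      rw [inv2_eq C.hB C.hV h hw (by rw [hwe]; simp [h1, h2]) (by rw [hwe']; simp [h1, h2])
        (by rw [hwe]; simp [h3, h4]) (by rw [hwe']; simp [h3, h4]), map_mul, C.neg, one_mul]
    · rw [ra, rb, zero_smul, zero_smul, zero_add, zero_add] at hwe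
      rw [rc', rd', zero_smul, zero_smul, add_zero, add_zero] at hwe'
      rw [hwe, hwe'] at hww
      simp [huv, hu'v, huv', hu'v'] at hww
    · rw [rc, rd, zero_smul, zero_smul, add_zero, add_zero] at hwe
      rw [ra', rb', zero_smul, zero_smul, zero_add, zero_add] at hwe'
      rw [hwe, hwe'] at hww
      simp [h1, h2, h3, h4] at hww
    · rw [rc, rd, zero_smul, zero_smul, add_zero, add_zero] at hwe
      rw [rc', rd', zero_smul, zero_smul, add_zero, add_zero] at hwe'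
      apply hne
      rw [← hu', inv2_eq C.hB C.hV hw hu (by rw [hwe]; simp [h1, h3]) (by rw [hwe]; simp [h2, h4])
        (by rw [hwe']; simp [h1, h3]) (by rw [hwe']; simp [h2, h4]), map_mul, C.neg, one_mul]
  apply not_all_t C hIF.ne_top
  intro y e
  obtain ⟨a, b, c, d, rfl⟩ := four C.hB C.hV h hu h1 h2 h3 h4 y
  by_cases k1 : a = 0 ∧ b = 0
  · rw [k1.1, k1.2, zero_smul, zero_smul, zero_add, zero_add]
    exact P2 _ _ _
  by_cases k2 : c = 0 ∧ d = 0
  · rw [k2.1, k2.2, zero_smul, zero_smul, add_zero, add_zero]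
    exact P1 _ _ _
  have s1 : ∀ c, π (t B (a • v + b • v' + (γ • u + δ • u')) c) ∈ A :=
    move2 C h P1 (by simp [h1, h2]) (by simp [h3, h4]) hαβ k1 hP
  have s2 : ∀ e, π (t B (γ • u + δ • u' + (a • v + b • v')) e) ∈ A := fun e => by
    rw [add_comm]; exact s1 e
  have s3 := move2 C hu P2 (b := a • v + b • v') (by simp [huv, huv']) (by simp [hu'v, hu'v']) hγδ k2 s2 e
  have e1 : a • v + b • v' + c • u + d • u' = c • u + d • u' + (a • v + b • v') := by module
  rw [e1]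
  exact s3

end Cfsg.Agent.H804.P4
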