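import Cfsg.Agent.H804.IF.P4Q
import Cfsg.Agent.H809.IF.EngC

/-!
# S5719, `PSp_4(q)`, `q` odd: two commuting involutions of type `t₂` (helper804)
-/

set_option autoImplicit false
set_option linter.unusedSectionVars false
set_option linter.unusedSimpArgs false

namespace Cfsg.Agent.H804.P4

open Subgroup Module Cfsg.Agent.H74.Psp Cfsg.Agent.H209.Fxy Cfsg.Agent.ClassicalGeometry.SL2Line
open Cfsg.Agent.ClassicalGeometry.SL2Borel Cfsg.Agent.ClassicalGeometry.MinIndexPSL2

section arith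

theorem arith0 {q f N : ℕ} (hq : 3 ≤ q)
    (h : f ^ 4 * ((q * (q ^ 2 - 1) * N) * (q * (q ^ 2 - 1) * N)) < 8 * (q + 1) * (q ^ 4 * ((q ^ 2 - 1) * (q ^ 4 - 1)))) :
    f ^ 4 * N ^ 2 < 8 * (q + 1) * (q ^ 2 * (q ^ 2 + 1)) := by
  obtain ⟨k, hk⟩ : ∃ k, q ^ 2 = k + 1 := ⟨q ^ 2 - 1, by
    have : 0 < q ^ 2 := by positivity
    omega⟩
  have hk0 : 0 < k := by
    have : 3 ^ 2 ≤ q ^ 2 := Nat.pow_le_pow_left hq 2
    omega
  have e1 : q ^ 2 - 1 = k := by omega
  have e2 : q ^ 4 - 1 = k * (k + 2) := by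
    have h1 : q ^ 4 = (q ^ 2) ^ 2 := by ring
    rw [h1, hk]
    have : (k + 1) ^ 2 = k * (k + 2) + 1 := by ring
    omega
  rw [e1, e2] at h
  have h3 : (q ^ 2 * k ^ 2) * (f ^ 4 * N ^ 2) < (q ^ 2 * k ^ 2) * (8 * (q + 1) * (q ^ 2 * (q ^ 2 + 1))) := by
    calc (q ^ 2 * k ^ 2) * (f ^ 4 * N ^ 2) = f ^ 4 * ((q * k * N) * (q * k * N)) := by ring
      _ < 8 * (q + 1) * (q ^ 4 * (k * (k * (k + 2)))) := h
      _ = (q ^ 2 * k ^ 2) * (8 * (q + 1) * (q ^ 2 * ((k + 1) + 1))) := by ring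
      _ = _ := by rw [← hk]
  exact lt_of_mul_lt_mul_left h3 (Nat.zero_le _)

theorem arith1 {q f N : ℕ} (hq : 3 ≤ q) (hf : q + 1 ≤ f) (hN : q + 1 ≤ N)
    (h : f ^ 4 * N ^ 2 < 8 * (q + 1) * (q ^ 2 * (q ^ 2 + 1))) : False := by
  have h1 : (q + 1) ^ 4 * (q + 1) ^ 2 ≤ f ^ 4 * N ^ 2 :=
    Nat.mul_le_mul (Nat.pow_le_pow_left hf 4) (Nat.pow_le_pow_left hN 2)
  have h3 : 8 * (q + 1) * (q ^ 2 * (q ^ 2 + 1)) ≤ (q + 1) ^ 4 * (q + 1) ^ 2 := by
    obtain ⟨n, rfl⟩ : ∃ n, q = n + 3 := ⟨q - 3, by omega⟩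
    have e1 : (n + 3 + 1) ^ 5 = 8 * ((n + 3) ^ 2 * ((n + 3) ^ 2 + 1)) +
        (n ^ 5 + 12 * n ^ 4 + 64 * n ^ 3 + 200 * n ^ 2 + 368 * n + 304) := by ring
    calc 8 * (n + 3 + 1) * ((n + 3) ^ 2 * ((n + 3) ^ 2 + 1))
        = (n + 3 + 1) * (8 * ((n + 3) ^ 2 * ((n + 3) ^ 2 + 1))) := by ring
      _ ≤ (n + 3 + 1) * (n + 3 + 1) ^ 5 := Nat.mul_le_mul_left _ (by rw [e1]; exact Nat.le_add_right _ _)
      _ = _ := by ring
  omega

theorem arith2 {q f N : ℕ} (hq : 9 ≤ q) (hf : q + 1 ≤ f) (hN : q - 1 ≤ N)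
    (h : f ^ 4 * N ^ 2 < 8 * (q + 1) * (q ^ 2 * (q ^ 2 + 1))) : False := by
  have h1 : (q + 1) ^ 4 * (q - 1) ^ 2 ≤ f ^ 4 * N ^ 2 :=
    Nat.mul_le_mul (Nat.pow_le_pow_left hf 4) (Nat.pow_le_pow_left hN 2)
  have h3 : 8 * (q + 1) * (q ^ 2 * (q ^ 2 + 1)) ≤ (q + 1) ^ 4 * (q - 1) ^ 2 := by
    obtain ⟨n, rfl⟩ : ∃ n, q = n + 9 := ⟨q - 9, by omega⟩
    have e0 : n + 9 - 1 = n + 8 := by omega
    have e1 : (n + 9 + 1) ^ 3 * (n + 8) ^ 2 = 8 * ((n + 9) ^ 2 * ((n + 9) ^ 2 + 1)) +
        (n ^ 5 + 38 * n ^ 4 + 556 * n ^ 3 + 3824 * n ^ 2 + 11728 * n + 10864) := by ring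
    rw [e0]
    calc 8 * (n + 9 + 1) * ((n + 9) ^ 2 * ((n + 9) ^ 2 + 1))
        = (n + 9 + 1) * (8 * ((n + 9) ^ 2 * ((n + 9) ^ 2 + 1))) := by ring
      _ ≤ (n + 9 + 1) * ((n + 9 + 1) ^ 3 * (n + 8) ^ 2) := Nat.mul_le_mul_left _ (by rw [e1]; exact Nat.le_add_right _ _)
      _ = _ := by ring
  omega

theorem arith3 {f N : ℕ} (hf : 8 ≤ f) (hN : 4 ≤ N)
    (h : f ^ 4 * N ^ 2 < 8 * (5 + 1) * (5 ^ 2 * (5 ^ 2 + 1))) : False := by
  have h1 : 8 ^ 4 * 4 ^ 2 ≤ f ^ 4 * N ^ 2 := Nat.mul_le_mul (Nat.pow_le_pow_left hf 4) (Nat.pow_le_pow_left hN 2)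
  norm_num at h h1
  omega

end arith

section

variable {F : Type*} [Field F]

theorem four_not_dvd [Finite F] (h2 : (2 : F) ≠ 0) (M : Subgroup (Matrix.SpecialLinearGroup (Fin 2) F))
    (h4 : ∀ m ∈ M, m * m ≠ -1) : ¬ 4 ∣ Nat.card M := by
  classical
  intro h7
  obtain ⟨K, hK⟩ := Sylow.exists_subgroup_card_pow_prime (G := M) 2 (n := 2) (by norm_num; exact h7)
  have h8 : ∀ k ∈ K, (k : Matrix.SpecialLinearGroup (Fin 2) F) = 1 ∨ (k : Matrix.SpecialLinearGroup (Fin 2) F) = -1 := by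
    intro k hk
    have h9 : (k : M) ^ 4 = 1 := by
      have := pow_card_eq_one' (x := (⟨k, hk⟩ : K))
      rw [hK] at this
      exact congrArg Subtype.val this
    have h10 : ((k : Matrix.SpecialLinearGroup (Fin 2) F) * k) * (k * k) = 1 := by
      have := congrArg (fun x : M => (x : Matrix.SpecialLinearGroup (Fin 2) F)) h9
      simp only [Subgroup.coe_pow, Subgroup.coe_one] at this
      rw [← pow_two, ← pow_two, ← pow_mul]
      exact this
    rcases sl_sq_eq_one h2 h10 with h11 | h11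
    · exact sl_sq_eq_one h2 h11
    · exact absurd h11 (h4 _ k.2)
  have h9 : Nat.card K ≤ 2 := by
    have hinj : Function.Injective (fun k : K =>
        decide (((k : M) : Matrix.SpecialLinearGroup (Fin 2) F) = 1)) := by
      intro k k' hkk
      simp only [decide_eq_decide] at hkk
      apply Subtype.ext
      apply Subtype.ext
      rcases h8 k k.2 with h10 | h10 <;> rcases h8 k' k'.2 with h11 | h11
      · rw [h10, h11]
      · exact absurd (hkk.1 h10) (by rw [h11]; exact neg_one_ne h2)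
      · exact absurd (hkk.2 h11) (by rw [h10]; exact neg_one_ne h2)
      · rw [h10, h11]
    have := Nat.card_le_card_of_injective _ hinj
    rwa [Nat.card_eq_fintype_card (α := Bool), Fintype.card_bool] at this
  rw [hK] at h9
  norm_num at h9

/-- `q = 5` -/
theorem odd_index5 [Finite F] (h2 : (2 : F) ≠ 0) (h5 : Nat.card F = 5)
    (M : Subgroup (Matrix.SpecialLinearGroup (Fin 2) F))
    (hneg : (-1 : Matrix.SpecialLinearGroup (Fin 2) F) ∈ M) (h4 : ∀ m ∈ M, m * m ≠ -1) : 8 ≤ M.index := by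
  classical
  have h1 := odd_index h2 M hneg h4
  have h3 := four_not_dvd h2 M h4
  have h6 := M.card_mul_index
  rw [card_sl2, h5] at h6
  rw [h5] at h1
  by_contra hcon
  have h7 : M.index = 6 ∨ M.index = 7 := by omega
  rcases h7 with h7 | h7
  · rw [h7] at h6
    apply h3
    have : Nat.card M = 20 := by omega
    rw [this]
    norm_num
  · rw [h7] at h6
    omega

end

section

variable {F V : Type*} [Field F] [Finite F] [AddCommGroup V] [Module F V] [Finite V] {B : V →ₗ[F] V →ₗ[F] F}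

theorem two_le (X : Subgroup (Sp B)) (i : Sp B) (hX : ∀ g ∈ X, g * i = i * g ∨ g * i = negOne B * (i * g)) :
    Nat.card X ≤ 2 * Nat.card (X ⊓ centralizer ({i} : Set (Sp B)) : Subgroup (Sp B)) := by
  classical
  by_cases hall : X ≤ centralizer ({i} : Set (Sp B))
  · rw [inf_eq_left.2 hall]
    omega
  obtain ⟨r, hr, hr'⟩ := Set.not_subset.1 hall
  have hr2 : r * i = negOne B * (i * r) := by
    rcases hX r hr with h | h
    · exact absurd (mem_centralizer_singleton_iff.2 h) hr'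
    · exact h
  have hri : r⁻¹ * i = negOne B * (i * r⁻¹) := by
    have h1 : i = r⁻¹ * (negOne B * (i * r)) := by rw [← hr2, inv_mul_cancel_left]
    calc r⁻¹ * i = r⁻¹ * ((negOne B * negOne B) * i) * (r * r⁻¹) := by rw [negOne_mul_self, one_mul, mul_inv_cancel, mul_one]
      _ = r⁻¹ * negOne B * (negOne B * (i * r)) * r⁻¹ := by group
      _ = negOne B * r⁻¹ * (negOne B * (i * r)) * r⁻¹ := by rw [← negOne_comm r⁻¹]
      _ = negOne B * (r⁻¹ * (negOne B * (i * r))) * r⁻¹ := by group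
      _ = negOne B * (i * r⁻¹) := by rw [← h1, mul_assoc]
  let f : X → (X ⊓ centralizer ({i} : Set (Sp B)) : Subgroup (Sp B)) × Bool := fun g =>
    if h : (g : Sp B) ∈ centralizer ({i} : Set (Sp B)) then (⟨g, g.2, h⟩, true)
    else (⟨(g : Sp B) * r⁻¹, X.mul_mem g.2 (X.inv_mem hr), by
      have h1 : (g : Sp B) * i = negOne B * (i * g) := by
        rcases hX g g.2 with h' | h'
        · exact absurd (mem_centralizer_singleton_iff.2 h') h
        · exact h'
      show _ ∈ centralizer ({i} : Set (Sp B))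
      rw [mem_centralizer_singleton_iff]
      calc (g : Sp B) * r⁻¹ * i = g * (r⁻¹ * i) := by group
        _ = (g * negOne B) * (i * r⁻¹) := by rw [hri]; group
        _ = negOne B * (g * i) * r⁻¹ := by rw [← negOne_comm]; group
        _ = (negOne B * negOne B) * (i * (g * r⁻¹)) := by rw [h1]; group
        _ = _ := by rw [negOne_mul_self, one_mul]⟩, false)
  have hf : Function.Injective f := by
    intro g g' he
    by_cases h1 : (g : Sp B) ∈ centralizer ({i} : Set (Sp B))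
    · by_cases h2 : (g' : Sp B) ∈ centralizer ({i} : Set (Sp B))
      · simp only [f, dif_pos h1, dif_pos h2, Prod.mk.injEq, Subtype.mk.injEq, and_true] at he
        apply Subtype.ext
        exact congrArg (fun x : (X ⊓ centralizer ({i} : Set (Sp B)) : Subgroup (Sp B)) => (x : Sp B)) he
      · simp [f, h1, h2] at he
    · by_cases h2 : (g' : Sp B) ∈ centralizer ({i} : Set (Sp B))
      · simp [f, h1, h2] at he
      · simp only [f, dif_neg h1, dif_neg h2, Prod.mk.injEq, Subtype.mk.injEq, and_true] at he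
        exact Subtype.ext (mul_right_cancel (congrArg Subtype.val he))
  have h3 := Nat.card_le_card_of_injective f hf
  rw [Nat.card_prod, Nat.card_eq_fintype_card (α := Bool), Fintype.card_bool] at h3
  omega

end

/-- **Rank at least two.** -/
theorem caseB2 : CaseB2 := by
  intro F V T _ _ _ _ _ _ _ _ B π C A Γ hIF hno s t hs ht hos hot hst hne
  classical
  obtain ⟨i, hi, rfl⟩ : ∃ i : Sp B, i * i = negOne B ∧ π i = s := by
    rcases C.inv_type hos with ⟨v, v', h1, h2⟩ | h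
    · exact absurd (by rw [h2]; exact hs) (hno v v' h1)
    · exact h
  obtain ⟨j, hj, rfl⟩ : ∃ j : Sp B, j * j = negOne B ∧ π j = t := by
    rcases C.inv_type hot with ⟨v, v', h1, h2⟩ | h
    · exact absurd (by rw [h2]; exact ht) (hno v v' h1)
    · exact h
  have hij := C.anti_lifts hi hj hne hst (fun v v' hv he => hno v v' hv (by rw [he]; exact A.mul_mem hs ht))
  obtain ⟨v, v', P⟩ := exists_Pair C.hB C.h2 C.hV hj
  have hq3 : 3 ≤ Nat.card F := by
    have h1 : 1 < Nat.card F := Finite.one_lt_card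
    by_contra hcon
    have h3 : Nat.card F = 2 := by omega
    apply C.h2
    have := Fintype.ofFinite F
    have h4 := FiniteField.cast_card_eq_zero F
    rw [← Nat.card_eq_fintype_card, h3] at h4
    exact_mod_cast h4
  -- the intersection with `SL₂`
  set M := (A.comap π).comap (lam C.hB P) with hM
  have hlneg : lam C.hB P (-1) = negOne B := by
    rw [lam_apply, sl_neg_one, sl_neg_one, inv2_eq C.hB C.hV P.h P.hj P.h1 P.h2 P.h3 P.h4]
    calc negOne B * inv2 B v v' * (negOne B * (negOne B * inv2 B v v'))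
        = negOne B * inv2 B v v' * ((negOne B * negOne B) * inv2 B v v') := by group
      _ = negOne B * (inv2 B v v' * inv2 B v v') := by rw [negOne_mul_self, one_mul, mul_assoc]
      _ = _ := by rw [inv2_mul_self C.hB P.h, mul_one]
  have hneg : (-1 : Matrix.SpecialLinearGroup (Fin 2) F) ∈ M := by
    rw [hM, mem_comap, mem_comap, hlneg, C.neg]
    exact A.one_mem
  have hM4 : ∀ m ∈ M, m * m ≠ -1 := by
    intro m hm hmm
    have hml : lam C.hB P m * lam C.hB P m = negOne B := by rw [← map_mul, hmm, hlneg]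
    set g := lam C.hB P m * j with hg
    have hgg : g * g = 1 := by
      calc g * g = lam C.hB P m * (j * lam C.hB P m) * j := by rw [hg]; group
        _ = (lam C.hB P m * lam C.hB P m) * (j * j) := by rw [lam_comm C.hB hj P]; group
        _ = 1 := by rw [hml, hj, negOne_mul_self]
    have hcoef : ∀ c : F, g • v ≠ c • v := by
      intro c hc
      have e1 : g • v = j • (m 0 0 • v + m 1 0 • v') := by
        rw [← lam_v C.hB P, ← mul_smul, lam_comm C.hB hj P]
      rw [e1] at hc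
      have e2 := congrArg (fun x => B x (j • v')) hc
      have e3 := congrArg (fun x => B (j • v) x) hc
      simp only [smul_add', smul_fsmul, map_add, LinearMap.map_smul, LinearMap.add_apply, LinearMap.smul_apply,
        C.hB.alt, P.hj, P.h2, orth_symm C.hB P.h1, smul_eq_mul, mul_one, mul_zero, add_zero, zero_add] at e2 e3
      have hd := det_eq m
      rw [e2, e3] at hd
      norm_num at hd
    obtain ⟨x, x', hx, hxe⟩ := exists_inv2 C.hB C.h2 C.hV hgg
      (fun h => hcoef 1 (by rw [h, one_smul, one_smul]))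
      (fun h => hcoef (-1) (by rw [h, negOne_smul, neg_one_smul]))
    apply hno x x' hx
    rw [hxe, hg, map_mul]
    exact A.mul_mem hm ht
  have hidx := odd_index C.h2 M hneg hM4
  -- `f ≥ |K : K ∩ A|`
  have hfx : M.index ≤ fx A (MulAut.conj (π j)) := by
    have h1 := (Cfsg.Agent.H999.IFB.IF.E1 hIF ((hIF.conj (π j)).2 ht)
      (by rw [Cfsg.Agent.H999.IFB.orderOf_conj C.hna, hot]) (B := (lam C.hB P).range.map π) (by
        rintro _ ⟨_, ⟨k, rfl⟩, rfl⟩
        rw [MulAut.conj_apply, mul_inv_eq_iff_eq_mul, ← map_mul, ← map_mul, lam_comm C.hB hj P])).1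
    rw [hM, Subgroup.index_comap, relIndex_comap]
    exact h1
  -- (E4)
  obtain ⟨-, -, h4, -⟩ := Cfsg.Agent.H809.IFC.IF.E4 hIF C.hna hs ht hos hot hne hst
  set Cs := centralizer ({π i} : Set T) with hCs
  set Ct := centralizer ({π j} : Set T) with hCt
  have k1 : Cs.relIndex Ct * Nat.card (Cs ⊓ Ct : Subgroup T) = Nat.card Ct := by
    have h5 := relIndex_mul_relIndex (⊥ : Subgroup T) (Cs ⊓ Ct) Ct bot_le inf_le_right
    rw [relIndex_bot_left, relIndex_bot_left, inf_relIndex_right] at h5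
    rw [mul_comm]
    exact h5
  have k2 := Cs.index_mul_card
  have k3 : Nat.card (Cs ⊓ Ct : Subgroup T) ≤ 4 * (Nat.card F + 1) := by
    have h5 := C.card_comap (Cs ⊓ Ct)
    set X := (Cs ⊓ Ct).comap π with hX
    have hXs : ∀ (l : Sp B), (∀ g ∈ X, π g * π l = π l * π g) → ∀ g ∈ X, g * l = l * g ∨ g * l = negOne B * (l * g) := by
      intro l hl g hg
      have := hl g hg
      rw [← map_mul, ← map_mul] at this
      exact C.eq_iff.1 this
    have h6 := two_le X i (hXs i fun g hg => mem_centralizer_singleton_iff.1 (mem_inf.1 (mem_comap.1 hg)).1)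
    have h7 := two_le (X ⊓ centralizer ({i} : Set (Sp B))) j (fun g hg => hXs j
      (fun g hg => mem_centralizer_singleton_iff.1 (mem_inf.1 (mem_comap.1 hg)).2) g (mem_inf.1 hg).1)
    have h8 : Nat.card (X ⊓ centralizer ({i} : Set (Sp B)) ⊓ centralizer ({j} : Set (Sp B)) : Subgroup (Sp B)) ≤
        Nat.card (centralizer ({i} : Set (Sp B)) ⊓ centralizer ({j} : Set (Sp B)) : Subgroup (Sp B)) :=
      Subgroup.card_le_of_le (inf_le_inf_right _ inf_le_right)
    have h9 := card_quat C.hB C.h2 C.hV hi hj hij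
    omega
  have k4 := C.card_centralizer_j hi
  have k5 := C.card_centralizer_j hj
  have k6 := C.card_T
  rw [C.card] at k6
  set q := Nat.card F with hqd
  set N := Nat.card (Circ F) with hNd
  set m := q * (q ^ 2 - 1) * N with hmd
  have hpos : 0 < Nat.card Cs * Nat.card (Cs ⊓ Ct : Subgroup T) := Nat.mul_pos Nat.card_pos Nat.card_pos
  have main : M.index ^ 4 * (m * m) < 8 * (q + 1) * (q ^ 4 * ((q ^ 2 - 1) * (q ^ 4 - 1))) := by
    calc M.index ^ 4 * (m * m) ≤ M.index ^ 4 * ((2 * Nat.card Cs) * (2 * Nat.card Ct)) :=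
          Nat.mul_le_mul_left _ (Nat.mul_le_mul k4 k5)
      _ = 4 * ((M.index ^ 4 * Cs.relIndex Ct) * (Nat.card Cs * Nat.card (Cs ⊓ Ct : Subgroup T))) := by
          rw [← k1]; ring
      _ ≤ 4 * ((fx A (MulAut.conj (π j)) ^ 4 * Cs.relIndex Ct) * (Nat.card Cs * Nat.card (Cs ⊓ Ct : Subgroup T))) :=
          Nat.mul_le_mul_left _ (Nat.mul_le_mul_right _ (Nat.mul_le_mul_right _ (Nat.pow_le_pow_left hfx 4)))
      _ < 4 * (Cs.index * (Nat.card Cs * Nat.card (Cs ⊓ Ct : Subgroup T))) :=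
          Nat.mul_lt_mul_of_pos_left (Nat.mul_lt_mul_of_pos_right h4 hpos) (by norm_num)
      _ = 4 * Nat.card T * Nat.card (Cs ⊓ Ct : Subgroup T) := by rw [← k2]; ring
      _ ≤ 4 * Nat.card T * (4 * (q + 1)) := Nat.mul_le_mul_left _ k3
      _ = 8 * (q + 1) * (2 * Nat.card T) := by ring
      _ = _ := by rw [← k6]
  have main2 := arith0 hq3 main
  by_cases hsq : ∀ x : F, x ^ 2 + 1 ≠ 0
  · exact arith1 hq3 hidx (circle_ge' C.h2 hsq) main2
  · push Not at hsq
    obtain ⟨x, hx⟩ := hsq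
    have hN := circle_ge C.h2
    have hq9 : 9 ≤ q ∨ q = 5 := by
      have := Fintype.ofFinite F
      have h5 : IsSquare (-1 : F) := ⟨x, by linear_combination -hx⟩
      have h6 := FiniteField.isSquare_neg_one_iff.1 h5
      rw [← Nat.card_eq_fintype_card, ← hqd] at h6
      have hodd : q % 2 = 1 := by
        rcases Nat.mod_two_eq_zero_or_one q with h | h
        · exfalso
          apply C.h2
          rw [hqd, Nat.card_eq_fintype_card] at h
          have h3 : ringChar F = 2 := FiniteField.even_card_iff_char_two.2 h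
          have := ringChar.Nat.cast_ringChar (R := F)
          rw [h3] at this
          exact_mod_cast this
        · exact h
      omega
    rcases hq9 with h9 | h9
    · exact arith2 h9 hidx hN main2
    · have h8 := odd_index5 C.h2 h9 M hneg hM4
      rw [h9] at main2
      exact arith3 h8 (by have := hN; omega) main2

end Cfsg.Agent.H804.P4
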