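import Cfsg.Agent.H804.IF.P4Frame
import Cfsg.Agent.H804.IF.P4A2
import Cfsg.Agent.H804.IF.P4B2
import Cfsg.Agent.H172.IF.One
import Cfsg.Agent.H580.IF.Semi
import Cfsg.Agent.H580.IF.Even

/-!
# S5719, the cell `PSp_4(q)` (helper804, helper172, helper580)

`psp4_odd`, and `psp4 : CellsPSp.two`.
-/

set_option autoImplicit false
set_option linter.unusedSectionVars false

namespace Cfsg.Agent.H804.P4

open Subgroup Cfsg Cfsg.Agent.H74.Psp Cfsg.Agent.H209.Fxy Cfsg.Agent.ClassicalGeometry.SympBasic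

/-- **`PSp_4(q)`, `q` odd.** -/
theorem psp4_odd (F : Type) [Field F] [Finite F] (h2 : (2 : F) ≠ 0) (hs : IsSimpleGroup (PSp 2 F)) :
    KillE (PSp 2 F) := by
  have : Finite (PSp 2 F) := Quotient.finite _
  intro A Γ h hex
  obtain ⟨t, ht, ho⟩ := hex
  have C := Cfsg.Agent.H580.Fx.ctx_pi2 (F := F) h2
  by_cases hno : ∀ v v' : Fin 2 ⊕ Fin 2 → F, (sympBilin 2 F) v v' = 1 →
      Cfsg.Agent.H580.Fx.pi2 F (inv2 (sympBilin 2 F) v v') ∉ A
  · by_cases hr : ∀ s ∈ A, ∀ t ∈ A, orderOf s = 2 → orderOf t = 2 → s * t = t * s → s = t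
    · exact Cfsg.Agent.H172.IF.caseB1 C (fun σ => Cfsg.Agent.H580.Fx.semiAut_pi2 h2 σ)
        (fun j hj => C.hcen hj) h hno hr ht ho
    · push Not at hr
      obtain ⟨s, hs', t', ht', ho1, ho2, hc, hne⟩ := hr
      exact caseB2 C h hno s t' hs' ht' ho1 ho2 hc hne
  · push Not at hno
    obtain ⟨v, v', hv, hm⟩ := hno
    exact caseA C h v v' hv hm

/-- **The cell `CellsPSp.two`.** -/
theorem psp4 : ∀ (F : Type) [Field F] [Fintype F], 3 ≤ Fintype.card F → IsSimpleGroup (PSp 2 F) →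
    KillE (PSp 2 F) := by
  intro F _ _ h3 hs
  rcases Nat.even_or_odd (Fintype.card F) with he | ho
  · exact Cfsg.Agent.H580.Fx.psp4_even F h3 he hs
  · refine psp4_odd F ?_ hs
    intro h2
    have h4 : ringChar F = 2 := by
      have h5 : ringChar F ∣ 2 := (ringChar.spec F 2).1 (by exact_mod_cast h2)
      have h6 : ringChar F ≠ 1 := CharP.ringChar_ne_one
      exact (Nat.prime_two.eq_one_or_self_of_dvd _ h5).resolve_left h6
    have h5 := FiniteField.even_card_iff_char_two.1 h4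
    obtain ⟨k, hk⟩ := ho
    omega

end Cfsg.Agent.H804.P4
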