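import Cfsg.Agent.H804.IF.P4Hom
import Cfsg.Agent.H847.IF.Lift

/-!
# S5719, `PSp_4(q)`, `q` odd: `A` contains an involution of type `t₁` (helper804)
-/

set_option autoImplicit false
set_option linter.unusedSectionVars false
set_option linter.unusedSimpArgs false

namespace Cfsg.Agent.H804.P4

open Subgroup Module Cfsg.Agent.H74.Psp Cfsg.Agent.H209.Fxy Cfsg.Agent.ClassicalGeometry.SL2Line
open Cfsg.Agent.ClassicalGeometry.SL2Borel Cfsg.Agent.ClassicalGeometry.MinIndexPSL2

section

variable {F V : Type*} [Field F] [Finite F] [AddCommGroup V] [Module F V] [Finite V] {B : V →ₗ[F] V →ₗ[F] F}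

local notation "SL2" => Matrix.SpecialLinearGroup (Fin 2)

/-- the orthogonal pair -/
theorem exists_orth (hB : Symp B) (hV : Nat.card V = Nat.card F ^ 4) {v v' : V} (h : B v v' = 1) :
    ∃ u u' : V, B u u' = 1 ∧ B v u = 0 ∧ B v u' = 0 ∧ B v' u = 0 ∧ B v' u' = 0 := by
  obtain ⟨y0, hy0⟩ : ∃ y0 : V, ∀ a b : F, y0 ≠ a • v + b • v' := by
    by_contra! hcon
    have hs : Function.Surjective (fun p : F × F => p.1 • v + p.2 • v') := by
      intro z
      obtain ⟨a, b, hab⟩ := hcon z
      exact ⟨(a, b), hab.symm⟩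
    have h3 := Nat.card_le_card_of_surjective _ hs
    rw [hV, Nat.card_prod, ← pow_two] at h3
    have h4 : Nat.card F ^ 2 < Nat.card F ^ 4 := Nat.pow_lt_pow_right Finite.one_lt_card (by norm_num)
    omega
  obtain ⟨u, a1, b1, hu1, hu2, hu3⟩ := decompV hB h y0
  have hu0 : u ≠ 0 := by
    rintro rfl
    exact hy0 a1 b1 (by rw [hu1, zero_add])
  obtain ⟨w0, hw0⟩ := sep0 hB hu0
  obtain ⟨u', a2, b2, hw1, hw2, hw3⟩ := decompV hB h w0
  refine ⟨u, u', ?_, hu2, hw2, hu3, hw3⟩
  rw [hw1, map_add, map_add, LinearMap.map_smul, LinearMap.map_smul, orth_symm hB hu2, orth_symm hB hu3, smul_zero,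
    smul_zero, add_zero, add_zero] at hw0
  exact hw0

/-- `inv2` of orthogonal pairs -/
theorem inv2_eq (hB : Symp B) (hV : Nat.card V = Nat.card F ^ 4) {v v' u u' : V} (h : B v v' = 1) (hu : B u u' = 1)
    (h1 : B v u = 0) (h2 : B v u' = 0) (h3 : B v' u = 0) (h4 : B v' u' = 0) :
    inv2 B u u' = negOne B * inv2 B v v' := by
  apply Sp.ext'
  intro z
  obtain ⟨a, b, c, d, rfl⟩ := four hB hV h hu h1 h2 h3 h4 z
  rw [mul_smul, negOne_smul, inv2_smul hB h, inv2_smul hB hu]
  simp only [map_add, LinearMap.map_smul, LinearMap.add_apply, LinearMap.smul_apply, smul_eq_mul, hB.alt, h, hu, h1,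
    h2, h3, h4, orth_symm hB h1, orth_symm hB h2, orth_symm hB h3, orth_symm hB h4, skew hB v' v, skew hB u' u]
  module

/-- the centraliser of `inv2` -/
theorem index_centralizer (hB : Symp B) (hV : Nat.card V = Nat.card F ^ 4)
    (hcard : Nat.card (Sp B) = Nat.card F ^ 4 * ((Nat.card F ^ 2 - 1) * (Nat.card F ^ 4 - 1)))
    {v v' : V} (h : B v v' = 1) :
    (centralizer ({inv2 B v v'} : Set (Sp B))).index ≤ Nat.card F ^ 2 * (Nat.card F ^ 2 + 1) := by
  classical
  obtain ⟨u, u', hu, h1, h2, h3, h4⟩ := exists_orth hB hV h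
  set C := centralizer ({inv2 B v v'} : Set (Sp B)) with hC
  have hq : 1 < Nat.card F := Finite.one_lt_card
  have hsq : 2 ^ 2 ≤ Nat.card F ^ 2 := Nat.pow_le_pow_left hq 2
  have hmem : ∀ p : SL2 F × SL2 F, sl hB h p.1 * sl hB hu p.2 ∈ C := by
    intro p
    rw [hC, mem_centralizer_singleton_iff]
    have e1 : inv2 B v v' = negOne B * sl hB h (-1) := by
      rw [sl_neg_one, ← mul_assoc, negOne_mul_self, one_mul]
    have e2 : sl hB h p.1 * sl hB h (-1) = sl hB h (-1) * sl hB h p.1 := by
      rw [← map_mul, ← map_mul, mul_neg, neg_mul, mul_one, one_mul]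
    have e3 := sl_comm hB h hu h1 h2 h3 h4 (-1) p.2
    rw [e1]
    calc sl hB h p.1 * sl hB hu p.2 * (negOne B * sl hB h (-1))
        = (sl hB h p.1 * sl hB hu p.2 * negOne B) * sl hB h (-1) := by group
      _ = (negOne B * (sl hB h p.1 * sl hB hu p.2)) * sl hB h (-1) := by rw [negOne_comm]
      _ = negOne B * (sl hB h p.1 * (sl hB hu p.2 * sl hB h (-1))) := by group
      _ = negOne B * ((sl hB h p.1 * sl hB h (-1)) * sl hB hu p.2) := by rw [← e3]; group
      _ = _ := by rw [e2]; group
  have hinj : Function.Injective (fun p : SL2 F × SL2 F => (⟨sl hB h p.1 * sl hB hu p.2, hmem p⟩ : C)) := by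
    rintro ⟨g, k⟩ ⟨g', k'⟩ he
    have he' : sl hB h g * sl hB hu k = sl hB h g' * sl hB hu k' := congrArg Subtype.val he
    have e1 : sl hB hu k • v = v := sl_orth hB hu k (orth_symm hB h1) (orth_symm hB h2)
    have e1' : sl hB hu k' • v = v := sl_orth hB hu k' (orth_symm hB h1) (orth_symm hB h2)
    have e2 : sl hB hu k • v' = v' := sl_orth hB hu k (orth_symm hB h3) (orth_symm hB h4)
    have e2' : sl hB hu k' • v' = v' := sl_orth hB hu k' (orth_symm hB h3) (orth_symm hB h4)
    have hg : sl hB h g = sl hB h g' := by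
      apply Sp.ext'
      intro z
      obtain ⟨a, b, c, d, rfl⟩ := four hB hV h hu h1 h2 h3 h4 z
      have f1 := congrArg (fun f : Sp B => f • v) he'
      have f2 := congrArg (fun f : Sp B => f • v') he'
      simp only [mul_smul, e1, e1', e2, e2'] at f1 f2
      simp only [smul_add', smul_fsmul, f1, f2, sl_orth hB h _ h1 h3, sl_orth hB h _ h2 h4]
    rw [hg] at he'
    exact Prod.ext (sl_inj hB h hg) (sl_inj hB hu (mul_left_cancel he'))
  have h5 := Nat.card_le_card_of_injective _ hinj
  rw [Nat.card_prod, card_sl2] at h5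
  have h6 := C.index_mul_card
  rw [hcard] at h6
  have h7 : 0 < Nat.card F * (Nat.card F ^ 2 - 1) := Nat.mul_pos (by omega) (by omega)
  have h8 : C.index * ((Nat.card F * (Nat.card F ^ 2 - 1)) * (Nat.card F * (Nat.card F ^ 2 - 1))) ≤
      (Nat.card F ^ 2 * (Nat.card F ^ 2 + 1)) * ((Nat.card F * (Nat.card F ^ 2 - 1)) *
        (Nat.card F * (Nat.card F ^ 2 - 1))) := by
    calc _ ≤ C.index * Nat.card C := Nat.mul_le_mul_left _ h5
      _ = Nat.card F ^ 4 * ((Nat.card F ^ 2 - 1) * (Nat.card F ^ 4 - 1)) := h6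
      _ = _ := by
        obtain ⟨m, hm⟩ : ∃ m, Nat.card F ^ 2 = m + 1 := ⟨Nat.card F ^ 2 - 1, by omega⟩
        have e4 : Nat.card F ^ 4 - 1 = m * (m + 2) := by
          have : Nat.card F ^ 4 = (Nat.card F ^ 2) ^ 2 := by ring
          rw [this, hm]
          have : (m + 1) ^ 2 = m * (m + 2) + 1 := by ring
          omega
        have e5 : Nat.card F ^ 2 - 1 = m := by omega
        rw [e4, e5]
        have e6 : Nat.card F ^ 4 = (m + 1) * (m + 1) := by rw [← hm]; ring
        have e7 : (m + 1) * (m + 1 + 1) * (Nat.card F * m * (Nat.card F * m)) =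
          (m + 1) * (m + 1 + 1) * (Nat.card F ^ 2 * m ^ 2) := by ring
        rw [hm, e7, e6, hm]
        ring
  exact Nat.le_of_mul_le_mul_right h8 (Nat.mul_pos h7 h7)

/-- transvections commuting with `g` -/
theorem line_of_comm (hB : Symp B) {g : Sp B} {w : V} (hw : w ≠ 0) (hc : g * t B w 1 = t B w 1 * g) :
    ∃ c : F, g • w = c • w := by
  obtain ⟨y, hy⟩ := sep0 hB hw
  have h1 : t B (g • w) 1 = t B w 1 := by rw [← conj_t hB, hc, mul_inv_cancel_right]
  have h2 := congrArg (fun k : Sp B => k • y) h1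
  simp only [t_smul hB, one_mul, add_right_inj] at h2
  rw [skew hB y w, hy] at h2
  have h3 : B y (g • w) ≠ 0 := by
    intro h0
    rw [h0, zero_smul] at h2
    apply hw
    have h4 : (-1 : F) • w = 0 := h2.symm
    rwa [neg_one_smul, neg_eq_zero] at h4
  refine ⟨-(B y (g • w))⁻¹, ?_⟩
  calc g • w = (B y (g • w))⁻¹ • (B y (g • w) • (g • w)) := by
        rw [smul_smul, inv_mul_cancel₀ h3, one_smul]
    _ = _ := by rw [h2, smul_smul]; congr 1; ring

variable {T : Type*} [Group T] {π : Sp B →* T}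

/-- commuting in `T` with a transvection -/
theorem Ctx.comm_t (C : Ctx π) {g : Sp B} {w : V} (hw : w ≠ 0)
    (hc : π g * π (t B w (2 : F)⁻¹) = π (t B w (2 : F)⁻¹) * π g) : ∃ c : F, g • w = c • w := by
  apply line_of_comm C.hB hw
  rw [← map_mul, ← map_mul] at hc
  have h1 : t B w 1 = t B w (2 : F)⁻¹ * t B w (2 : F)⁻¹ := by
    rw [t_mul C.hB, ← two_mul, mul_inv_cancel₀ C.h2]
  rw [h1]
  rcases C.eq_iff.1 hc with h3 | h3
  · rw [← mul_assoc, h3, mul_assoc, h3, mul_assoc]
  · rw [← mul_assoc, h3, mul_assoc, mul_assoc, h3, ← mul_assoc (t B w 2⁻¹) (negOne B), ← negOne_comm,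
      mul_assoc (negOne B), ← mul_assoc (negOne B) (negOne B), negOne_mul_self, one_mul, mul_assoc]

/-- an element acting by scalars on three vectors -/
theorem scal3 (hB : Symp B) {v v' : V} (h : B v v' = 1) {g : Sp B} {a b c : F} (h1 : g • v = a • v)
    (h2 : g • v' = b • v') (h3 : g • (v + v') = c • (v + v')) : a = b ∧ a * a = 1 := by
  rw [smul_add', h1, h2, smul_add] at h3
  have e1 := congrArg (fun x => B x v') h3
  have e2 := congrArg (fun x => B v x) h3
  simp only [map_add, LinearMap.map_smul, LinearMap.add_apply, LinearMap.smul_apply, smul_eq_mul, hB.alt, h, mul_one,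
    mul_zero, add_zero, zero_add] at e1 e2
  have e3 := B_smul_smul g v v'
  rw [h1, h2] at e3
  simp only [LinearMap.map_smul, LinearMap.smul_apply, smul_eq_mul, h, mul_one] at e3
  have e4 : a = b := e1.trans e2.symm
  exact ⟨e4, by rw [← e3, e4]⟩

end

section

variable {F V T : Type*} [Field F] [Finite F] [AddCommGroup V] [Module F V] [Finite V] [Group T] [Finite T]
  [IsSimpleGroup T] {B : V →ₗ[F] V →ₗ[F] F} {π : Sp B →* T} {A : Subgroup T} {Γ : Subgroup (MulAut T)}

theorem Ctx.hna (C : Ctx π) : ∃ a b : T, a * b ≠ b * a := by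
  by_contra! hcon
  have hnt : Nontrivial V := by
    rw [← Finite.one_lt_card_iff_nontrivial, C.hV]
    exact Nat.one_lt_pow (by norm_num) Finite.one_lt_card
  obtain ⟨x, hx⟩ := exists_ne (0 : V)
  obtain ⟨y, hy⟩ := sep0 C.hB hx
  -- `t x` and `t y` do not commute modulo signs
  obtain ⟨c, hc⟩ := C.comm_t (g := t B y 1) hx (hcon _ _)
  rw [t_smul C.hB, hy, one_mul, one_smul] at hc
  have h1 := congrArg (fun z => B x z) hc
  simp only [map_add, LinearMap.map_smul, C.hB.alt, hy, smul_zero, zero_add] at h1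
  exact one_ne_zero h1

variable (C : Ctx π) (hIF : IF A Γ)
include C hIF

/-- The `SL₂`'s of an involution of type `t₁` in `A`. -/
theorem sl_mem {v v' : V} (h : B v v' = 1) (hmem : π (inv2 B v v') ∈ A) (g : Matrix.SpecialLinearGroup (Fin 2) F) :
    π (sl C.hB h g) ∈ A := by
  have h1 : π (inv2 B v v') ≠ 1 := by
    intro h1
    rcases C.ker _ h1 with h2 | h2
    · obtain ⟨u, u', hu, h3, h4, h5, h6⟩ := exists_orth C.hB C.hV h
      have e1 := inv2_orth C.hB h h3 h5
      rw [h2, one_smul] at e1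
      have e2 := congrArg (fun x => B x u') e1
      simp only [map_neg, LinearMap.neg_apply, hu] at e2
      apply C.h2
      linear_combination e2
    · have e1 := inv2_v C.hB h
      rw [h2, negOne_smul] at e1
      have e2 := congrArg (fun x => B x v') e1
      simp only [map_neg, LinearMap.neg_apply, h] at e2
      apply C.h2
      linear_combination -e2
  have key := Cfsg.Agent.H847.IF.lift_E2 hIF C.hna π C.surj hmem h1 (by rw [inv2_mul_self C.hB h, map_one])
    (B := (sl C.hB h).range) (by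
      rintro _ ⟨k, rfl⟩
      have e1 : inv2 B v v' = negOne B * sl C.hB h (-1) := by
        rw [sl_neg_one, ← mul_assoc, negOne_mul_self, one_mul]
      rw [e1, ← mul_assoc, ← negOne_comm, mul_assoc, mul_assoc, ← map_mul, ← map_mul, mul_neg, neg_mul, mul_one,
        one_mul])
  have key2 := lt_of_lt_of_le key (index_centralizer C.hB C.hV C.card h)
  rw [← Subgroup.index_comap] at key2
  have h2 := sl_top C.h2 ((A.comap π).comap (sl C.hB h)) (by
    rw [mem_comap, mem_comap, sl_neg_one, map_mul, C.neg, one_mul]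
    exact hmem) key2
  have h3 : g ∈ (A.comap π).comap (sl C.hB h) := by rw [h2]; trivial
  exact h3

/-- transvections in the two planes of an involution of type `t₁` in `A` -/
theorem tv_mem {v v' : V} (h : B v v' = 1) (hmem : π (inv2 B v v') ∈ A) (a b c : F) :
    π (t B (a • v + b • v') c) ∈ A := by
  obtain ⟨g, hg⟩ := sl_tt C.hB h a b c
  rw [← hg]
  exact sl_mem C hIF h hmem g

end

section

variable {F V T : Type*} [Field F] [Finite F] [AddCommGroup V] [Module F V] [Finite V] [Group T] [Finite T]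
  [IsSimpleGroup T] {B : V →ₗ[F] V →ₗ[F] F} {π : Sp B →* T} {A : Subgroup T} {Γ : Subgroup (MulAut T)}

/-- `A` contains no longer all transvections -/
theorem not_all_t (C : Ctx π) (hne : A ≠ ⊤) (hall : ∀ (w : V) (c : F), π (t B w c) ∈ A) : False := by
  apply hne
  have hnt : Nontrivial V := by
    rw [← Finite.one_lt_card_iff_nontrivial, C.hV]
    exact Nat.one_lt_pow (by norm_num) Finite.one_lt_card
  obtain ⟨x, hx⟩ := exists_ne (0 : V)
  set S : Set T := {y : T | ∃ (w : V) (c : F), y = π (t B w c)} with hS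
  have h1 : normalClosure S ≤ A := by
    rw [normalClosure, closure_le]
    intro y hy
    rw [Group.mem_conjugatesOfSet_iff] at hy
    obtain ⟨_, ⟨w, c, rfl⟩, hconj⟩ := hy
    obtain ⟨k, hk⟩ := isConj_iff.1 hconj
    obtain ⟨g, rfl⟩ := C.surj k
    rw [← hk, ← map_mul, ← map_inv, ← map_mul, conj_t C.hB]
    exact hall _ _
  have h2 : normalClosure S ≠ ⊥ := by
    intro h2
    have h3 : π (t B x 1) ∈ normalClosure S := subset_normalClosure ⟨x, 1, rfl⟩
    rw [h2, mem_bot] at h3
    obtain ⟨y, hy⟩ := sep0 C.hB hx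
    rcases C.ker _ h3 with h4 | h4
    · have e1 := congrArg (fun g : Sp B => g • y) h4
      simp only [t_smul C.hB, one_smul, one_mul] at e1
      have e2 := congrArg (fun z => B z y) e1
      simp only [map_add, LinearMap.add_apply, LinearMap.map_smul, LinearMap.smul_apply, C.hB.alt, hy, smul_eq_mul,
        zero_add, mul_one, skew C.hB y x] at e2
      exact (neg_ne_zero.2 one_ne_zero) e2
    · have e1 := congrArg (fun g : Sp B => g • x) h4
      simp only [t_smul C.hB, C.hB.alt, mul_zero, zero_smul, add_zero, negOne_smul] at e1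
      have h5 : (2 : F) • x = 0 := by
        rw [two_smul F x]
        exact add_eq_zero_iff_eq_neg.2 e1
      exact (smul_ne_zero C.h2 hx) h5
  rcases (normalClosure_normal (s := S)).eq_bot_or_eq_top with h3 | h3
  · exact absurd h3 h2
  · rw [h3] at h1
    exact top_le_iff.1 h1

variable (C : Ctx π) (hIF : IF A Γ)
include C hIF

/-- There is a second involution of type `t₁`. -/
theorem exists_second {v v' : V} (h : B v v' = 1) (hmem : π (inv2 B v v') ∈ A) :
    ∃ w w' : V, B w w' = 1 ∧ π (inv2 B w w') ∈ A ∧ π (inv2 B w w') ≠ π (inv2 B v v') := by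
  by_contra! hcon
  obtain ⟨u, u', hu, h1, h2, h3, h4⟩ := exists_orth C.hB C.hV h
  have hu' : π (inv2 B u u') = π (inv2 B v v') := by
    rw [inv2_eq C.hB C.hV h hu h1 h2 h3 h4, map_mul, C.neg, one_mul]
  set t0 : T := π (inv2 B v v') with ht0
  have hmemu : π (inv2 B u u') ∈ A := by rw [hu']; exact hmem
  -- `A ≤ C(t0)`
  have hAC : A ≤ centralizer ({t0} : Set T) := by
    intro a ha
    rw [mem_centralizer_singleton_iff]
    obtain ⟨g, rfl⟩ := C.surj a
    have h5 : π g * t0 * (π g)⁻¹ = π (inv2 B (g • v) (g • v')) := by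
      rw [ht0, ← map_mul, ← map_inv, ← map_mul, conj_inv2 C.hB h]
    have h6 := hcon (g • v) (g • v') (by rw [B_smul_smul, h]) (by
      rw [← h5]
      exact A.mul_mem (A.mul_mem ha hmem) (A.inv_mem ha))
    rw [h6] at h5
    exact mul_inv_eq_iff_eq_mul.1 h5
  have hord : orderOf t0 = 2 := by
    apply orderOf_eq_prime
    · rw [ht0, pow_two, ← map_mul, inv2_mul_self C.hB h, map_one]
    · intro h5
      have h6 : orderOf t0 = 1 := by rw [h5, orderOf_one]
      rcases C.ker _ h5 with h2' | h2'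
      · have e1 := inv2_orth C.hB h h1 h3
        rw [h2', one_smul] at e1
        have e2 := congrArg (fun x => B x u') e1
        simp only [map_neg, LinearMap.neg_apply, hu] at e2
        apply C.h2
        linear_combination e2
      · have e1 := inv2_v C.hB h
        rw [h2', negOne_smul] at e1
        have e2 := congrArg (fun x => B x v') e1
        simp only [map_neg, LinearMap.neg_apply, h] at e2
        apply C.h2
        linear_combination -e2
  -- `t0` is the only involution of `Z(A)`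
  have huniq : ∀ s : T, orderOf s = 2 → (∀ a ∈ A, s * a = a * s) → s = t0 := by
    intro s hs hcs
    obtain ⟨g, rfl⟩ := C.surj s
    have hl : ∀ w : V, w ≠ 0 → π (t B w (2 : F)⁻¹) ∈ A → ∃ c : F, g • w = c • w := fun w hw hwA =>
      C.comm_t hw (hcs _ hwA)
    have hne : ∀ {x x' : V}, B x x' = 1 → x ≠ 0 ∧ x' ≠ 0 ∧ x + x' ≠ 0 := by
      intro x x' hx
      refine ⟨?_, ?_, ?_⟩
      · rintro rfl
        simp at hx
      · rintro rfl
        simp at hx
      · intro h0
        have e1 := congrArg (fun y => B x y) h0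
        simp only [map_add, C.hB.alt, hx, zero_add, map_zero] at e1
        exact one_ne_zero e1
    have hpm : ∀ {x x' : V} (hx : B x x' = 1), π (inv2 B x x') ∈ A → ∃ c : F, (c = 1 ∨ c = -1) ∧ g • x = c • x ∧
        g • x' = c • x' := by
      intro x x' hx hxA
      obtain ⟨n1, n2, n3⟩ := hne hx
      have m1 := tv_mem C hIF hx hxA 1 0 (2 : F)⁻¹
      have m2 := tv_mem C hIF hx hxA 0 1 (2 : F)⁻¹
      have m3 := tv_mem C hIF hx hxA 1 1 (2 : F)⁻¹
      rw [one_smul, zero_smul, add_zero] at m1
      rw [one_smul, zero_smul, zero_add] at m2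
      rw [one_smul, one_smul] at m3
      obtain ⟨a, ha⟩ := hl _ n1 m1
      obtain ⟨b, hb⟩ := hl _ n2 m2
      obtain ⟨c, hc⟩ := hl _ n3 m3
      obtain ⟨e1, e2⟩ := scal3 C.hB hx ha hb hc
      refine ⟨a, sq1_cases e2, ha, ?_⟩
      rw [e1]
      exact hb
    obtain ⟨c, hc, hc1, hc2⟩ := hpm h hmem
    obtain ⟨d, hd, hd1, hd2⟩ := hpm hu hmemu
    have hs1 : π g ≠ 1 := by
      intro h5
      rw [h5, orderOf_one] at hs
      omega
    have hi1 : inv2 B v v' • v' = v' := by
      rw [inv2_smul C.hB h, C.hB.alt, skew C.hB v' v, h]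
      module
    have ext4 : ∀ {k : Sp B}, (g • v = k • v) → (g • v' = k • v') → (g • u = k • u) → (g • u' = k • u') → g = k := by
      intro k k1 k2 k3 k4
      apply Sp.ext'
      intro z
      obtain ⟨a, b, c, d, rfl⟩ := four C.hB C.hV h hu h1 h2 h3 h4 z
      simp only [smul_add', smul_fsmul, k1, k2, k3, k4]
    rcases hc with rfl | rfl <;> rcases hd with rfl | rfl
    · exfalso
      apply hs1
      rw [ext4 (k := 1) (by rw [hc1, one_smul, one_smul]) (by rw [hc2, one_smul, one_smul])
        (by rw [hd1, one_smul, one_smul]) (by rw [hd2, one_smul, one_smul]), map_one]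
    · rw [ext4 (k := inv2 B v v') (by rw [hc1, one_smul, inv2_v C.hB h]) (by rw [hc2, one_smul, hi1])
        (by rw [hd1, inv2_orth C.hB h h1 h3, neg_one_smul]) (by rw [hd2, inv2_orth C.hB h h2 h4, neg_one_smul])]
    · rw [ext4 (k := negOne B * inv2 B v v') (by rw [hc1, mul_smul, inv2_v C.hB h, negOne_smul, neg_one_smul])
        (by rw [hc2, mul_smul, hi1, negOne_smul, neg_one_smul])
        (by rw [hd1, mul_smul, inv2_orth C.hB h h1 h3, negOne_smul, neg_neg, one_smul])
        (by rw [hd2, mul_smul, inv2_orth C.hB h h2 h4, negOne_smul, neg_neg, one_smul]), map_mul, C.neg, one_mul]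
    · exfalso
      apply hs1
      rw [ext4 (k := negOne B) (by rw [hc1, negOne_smul, neg_one_smul]) (by rw [hc2, negOne_smul, neg_one_smul])
        (by rw [hd1, negOne_smul, neg_one_smul]) (by rw [hd2, negOne_smul, neg_one_smul]), C.neg]
  -- `C(t0)` is invariant
  have hσ : ∀ σ ∈ Γ, σ t0 = t0 := by
    intro σ hσ
    apply huniq
    · rw [← hord]
      exact orderOf_injective σ.toMonoidHom σ.injective t0
    · intro a ha
      obtain ⟨a', rfl⟩ := σ.surjective a
      have ha' : a' ∈ A := (hIF.inv σ hσ a').1 ha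
      have h5 := mem_centralizer_singleton_iff.1 (hAC ha')
      rw [← map_mul, ← map_mul, h5]
  rcases hIF.max (centralizer ({t0} : Set T)) hAC (by
      intro σ hσ' b hb
      rw [mem_centralizer_singleton_iff] at hb ⊢
      rw [← hσ σ hσ', ← map_mul, ← map_mul, hb]) with h5 | h5
  · -- the swap
    have hw : B (v + u) ((2 : F)⁻¹ • (v' + u')) = 1 := by
      simp only [map_add, LinearMap.map_smul, LinearMap.add_apply, smul_eq_mul, h, hu, h2, orth_symm C.hB h3]
      have := C.h2
      field_simp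
      norm_num
    set s := inv2 B (v + u) ((2 : F)⁻¹ • (v' + u')) with hs
    have hv'u : B u v' = 0 := orth_symm C.hB h3
    have huv : B u v = 0 := orth_symm C.hB h1
    have h22 : (2 : F) * (2 : F)⁻¹ = 1 := mul_inv_cancel₀ C.h2
    have sv : s • v = u := by
      rw [hs, inv2_smul C.hB hw]
      simp only [map_add, LinearMap.map_smul, smul_eq_mul, C.hB.alt, h, h1, h2]
      have e1 : (2 : F) * ((2 : F)⁻¹ * (1 + 0)) = 1 := by rw [add_zero, mul_one, h22]
      rw [e1]
      module
    have sv' : s • v' = u' := by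
      rw [hs, inv2_smul C.hB hw]
      simp only [map_add, LinearMap.map_smul, smul_eq_mul, C.hB.alt, h3, h4, skew C.hB v' v, h]
      rw [add_zero, mul_zero, mul_zero, add_zero, smul_smul]
      have e1 : (2 : F) * (-1) * (2 : F)⁻¹ = -1 := by
        rw [mul_comm (2 : F), mul_assoc, h22, mul_one]
      rw [e1]
      module
    have h6 : π s ∈ A := by
      rw [← h5, mem_centralizer_singleton_iff]
      have h7 : π s * t0 * (π s)⁻¹ = t0 := by
        rw [ht0, ← map_mul, ← map_inv, ← map_mul, conj_inv2 C.hB h, sv, sv', hu']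
      exact mul_inv_eq_iff_eq_mul.1 h7
    have h7 := hcon _ _ hw h6
    rw [← hs] at h7
    have h8 : ∀ c : F, s • v ≠ c • v := by
      intro c hc
      rw [sv] at hc
      have e1 := congrArg (fun x => B x u') hc
      simp only [LinearMap.map_smul, LinearMap.smul_apply, hu, h2, smul_zero] at e1
      exact one_ne_zero e1
    rcases C.eq_iff.1 h7 with h9 | h9
    · apply h8 1
      rw [h9, inv2_v C.hB h, one_smul]
    · apply h8 (-1)
      rw [h9, mul_smul, inv2_v C.hB h, negOne_smul, neg_one_smul]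
  · -- `t0` is not central
    have h6 : t0 = 1 := Cfsg.Agent.H999.IFB.center_of C.hna (fun x => by
      have : x ∈ centralizer ({t0} : Set T) := by rw [h5]; trivial
      exact (mem_centralizer_singleton_iff.1 this).symm)
    rw [h6, orderOf_one] at hord
    omega

end

end Cfsg.Agent.H804.P4
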