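import Cfsg.Agent.H804.IF.P4Inv
import Cfsg.Agent.H804.IF.P4Sl

/-!
# S5719, `PSp_4(q)`, `q` odd: `SL₂` of a hyperbolic pair (helper804)

`sl hB h : SL(2,F) →* Sp B` for `h : B v v' = 1`: `v ↦ g₀₀ v + g₁₀ v'`, `v' ↦ g₀₁ v + g₁₁ v'`, the identity on the
orthogonal complement.
-/

set_option autoImplicit false
set_option linter.unusedSectionVars false

namespace Cfsg.Agent.H804.P4

open Subgroup Module Cfsg.Agent.H74.Psp Cfsg.Agent.H209.Fxy Cfsg.Agent.ClassicalGeometry.SL2Line
open Cfsg.Agent.ClassicalGeometry.SL2Borel Cfsg.Agent.ClassicalGeometry.MinIndexPSL2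

section

variable {F V : Type*} [Field F] [AddCommGroup V] [Module F V] {B : V →ₗ[F] V →ₗ[F] F}

local notation "SL2" => Matrix.SpecialLinearGroup (Fin 2)

/-- the linear map of `g` -/
noncomputable def slfun (B : V →ₗ[F] V →ₗ[F] F) (v v' : V) (g : SL2 F) : V →ₗ[F] V :=
  LinearMap.id + ((g 0 0 - 1) • B.flip v' + g 0 1 • B v).smulRight v +
    (g 1 0 • B.flip v' + (g 1 1 - 1) • B v).smulRight v'

theorem slfun_apply (v v' : V) (g : SL2 F) (x : V) : slfun B v v' g x =
    x + ((g 0 0 - 1) * B x v' + g 0 1 * B v x) • v + (g 1 0 * B x v' + (g 1 1 - 1) * B v x) • v' := by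
  simp [slfun]

theorem slfun_one (v v' : V) : slfun B v v' (1 : SL2 F) = LinearMap.id := by
  apply LinearMap.ext
  intro x
  rw [slfun_apply]
  simp [sl_one_apply]

theorem slfun_mul (hB : Symp B) {v v' : V} (h : B v v' = 1) (g k : SL2 F) :
    slfun B v v' g ∘ₗ slfun B v v' k = slfun B v v' (g * k) := by
  have h1 : B v' v = -1 := by rw [skew hB, h]
  apply LinearMap.ext
  intro x
  rw [LinearMap.comp_apply, slfun_apply, slfun_apply, slfun_apply]
  simp only [sl_mul_apply, map_add, LinearMap.map_smul, LinearMap.add_apply, LinearMap.smul_apply, smul_eq_mul,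
    hB.alt, h]
  match_scalars <;> ring

/-- **`SL₂` of a hyperbolic pair** -/
noncomputable def sl (hB : Symp B) {v v' : V} (h : B v v' = 1) : SL2 F →* Sp B where
  toFun g := ⟨LinearEquiv.ofLinearMap (slfun B v v' g) (slfun B v v' g⁻¹)
      (by rw [slfun_mul hB h, mul_inv_cancel, slfun_one]) (by rw [slfun_mul hB h, inv_mul_cancel, slfun_one]), by
    intro x y
    change B (slfun B v v' g x) (slfun B v v' g y) = B x y
    have h1 : B v' v = -1 := by rw [skew hB, h]
    have hd := det_eq g
    simp only [slfun_apply, map_add, LinearMap.map_smul, LinearMap.add_apply, LinearMap.smul_apply, smul_eq_mul,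
      hB.alt, h, h1, skew hB v' y, skew hB x v]
    linear_combination (B x v' * B v y - B y v' * B v x) * hd⟩
  map_one' := by
    apply Sp.ext'
    intro x
    change slfun B v v' 1 x = x
    rw [slfun_one]
    rfl
  map_mul' g k := by
    apply Sp.ext'
    intro x
    rw [mul_smul]
    change slfun B v v' (g * k) x = slfun B v v' g (slfun B v v' k x)
    rw [← slfun_mul hB h]
    rfl

variable (hB : Symp B) {v v' : V} (h : B v v' = 1)

theorem sl_smul (g : SL2 F) (x : V) : sl hB h g • x =
    x + ((g 0 0 - 1) * B x v' + g 0 1 * B v x) • v + (g 1 0 * B x v' + (g 1 1 - 1) * B v x) • v' :=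
  slfun_apply v v' g x

theorem sl_v (g : SL2 F) : sl hB h g • v = g 0 0 • v + g 1 0 • v' := by
  rw [sl_smul, h, hB.alt]
  module

theorem sl_v' (g : SL2 F) : sl hB h g • v' = g 0 1 • v + g 1 1 • v' := by
  rw [sl_smul, h, hB.alt]
  module

theorem sl_orth (g : SL2 F) {x : V} (h1 : B v x = 0) (h2 : B v' x = 0) : sl hB h g • x = x := by
  rw [sl_smul, h1, orth_symm hB h2]
  module

theorem sl_t (a : F) : sl hB h (uni (-a)) = t B v a := by
  apply Sp.ext'
  intro x
  rw [sl_smul, t_smul hB, skew hB v x]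
  simp only [uni, mk_00, mk_01, mk_10, mk_11]
  module

theorem sl_t' (a : F) : sl hB h (low a) = t B v' a := by
  apply Sp.ext'
  intro x
  rw [sl_smul, t_smul hB]
  simp only [low, mk_00, mk_01, mk_10, mk_11]
  module

theorem sl_tt (a b c : F) : ∃ g : SL2 F, sl hB h g = t B (a • v + b • v') c := by
  refine ⟨mk (1 + c * a * b) (-(c * a ^ 2)) (c * b ^ 2) (1 - c * a * b) (by ring), ?_⟩
  apply Sp.ext'
  intro x
  rw [sl_smul, t_smul hB]
  simp only [mk_00, mk_01, mk_10, mk_11, map_add, LinearMap.map_smul, smul_eq_mul, skew hB v x]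
  match_scalars <;> ring

theorem sl_inj : Function.Injective (sl hB h) := by
  intro g k hgk
  have h1 : B v' v = -1 := by rw [skew hB, h]
  have e1 := congrArg (fun f : Sp B => f • v) hgk
  have e2 := congrArg (fun f : Sp B => f • v') hgk
  simp only [sl_v, sl_v'] at e1 e2
  have f1 := congrArg (fun x => B x v') e1
  have f2 := congrArg (fun x => B v x) e1
  have f3 := congrArg (fun x => B x v') e2
  have f4 := congrArg (fun x => B v x) e2
  simp only [map_add, LinearMap.map_smul, LinearMap.add_apply, LinearMap.smul_apply, smul_eq_mul, hB.alt, h, mul_one,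
    mul_zero, add_zero, zero_add] at f1 f2 f3 f4
  exact sl_ext f1 f3 f2 f4

theorem sl_neg_one : sl hB h (-1) = negOne B * inv2 B v v' := by
  apply Sp.ext'
  intro x
  rw [sl_smul, mul_smul, inv2_smul hB h, negOne_smul, skew hB v x]
  simp only [sl_neg_apply, sl_one_apply]
  norm_num
  module

/-- orthogonal pairs -/
theorem sl_comm {u u' : V} (hu : B u u' = 1) (h1 : B v u = 0) (h2 : B v u' = 0) (h3 : B v' u = 0) (h4 : B v' u' = 0)
    (g k : SL2 F) : sl hB h g * sl hB hu k = sl hB hu k * sl hB h g := by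
  apply Sp.ext'
  intro x
  rw [mul_smul, mul_smul, sl_smul, sl_smul, sl_smul, sl_smul]
  simp only [map_add, LinearMap.map_smul, LinearMap.add_apply, LinearMap.smul_apply, smul_eq_mul, h1, h2, h3, h4,
    orth_symm hB h1, orth_symm hB h2, orth_symm hB h3, orth_symm hB h4]
  match_scalars <;> ring

end

end Cfsg.Agent.H804.P4
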