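import Cfsg.Agent.H804.IF.P4A

/-!
# S5719, `PSp_4(q)`, `q` odd: the centraliser of an involution of type `t₂` (helper804)

* `lam` : `SL₂(q) → C(j)`;  `rot x y : z ↦ x z + y (j z)`, `x² + y² = 1`;
* `card_centralizer_j` : `q(q²-1) N ≤ 2 |C_T(π j)|`, `N` the number of solutions of `x² + y² = 1`;
* `circle_ge`, `circle_ge'` : `N ≥ q - 1`; `N ≥ q + 1` if `-1` is not a square.
-/

set_option autoImplicit false
set_option linter.unusedSectionVars false
set_option linter.unusedSimpArgs false

namespace Cfsg.Agent.H804.P4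

open Subgroup Module Cfsg.Agent.H74.Psp Cfsg.Agent.H209.Fxy Cfsg.Agent.ClassicalGeometry.SL2Line
open Cfsg.Agent.ClassicalGeometry.SL2Borel Cfsg.Agent.ClassicalGeometry.MinIndexPSL2

/-- the circle -/
def Circ (F : Type*) [Field F] : Type _ := {p : F × F // p.1 ^ 2 + p.2 ^ 2 = 1}

section circle

variable {F : Type*} [Field F] [Finite F]

instance : Finite (Circ F) := Subtype.finite

/-- the rational parametrisation -/
noncomputable def par : Option {m : F // m ^ 2 + 1 ≠ 0} → Circ F
  | none => ⟨(1, 0), by norm_num⟩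
  | some m => ⟨((m.1 ^ 2 - 1) / (m.1 ^ 2 + 1), 2 * m.1 / (m.1 ^ 2 + 1)), by
      have := m.2
      field_simp
      ring⟩

theorem par_inj (h2 : (2 : F) ≠ 0) : Function.Injective (par (F := F)) := by
  have key : ∀ m : {m : F // m ^ 2 + 1 ≠ 0}, 1 - (m.1 ^ 2 - 1) / (m.1 ^ 2 + 1) = 2 / (m.1 ^ 2 + 1) := by
    intro m
    have := m.2
    field_simp
    ring
  have key2 : ∀ m : {m : F // m ^ 2 + 1 ≠ 0}, (1 - (m.1 ^ 2 - 1) / (m.1 ^ 2 + 1)) * m.1 = 2 * m.1 / (m.1 ^ 2 + 1) := by
    intro m
    rw [key]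
    ring
  intro a b hab
  have h1 : (par a).1.1 = (par b).1.1 := by rw [hab]
  have h3 : (par a).1.2 = (par b).1.2 := by rw [hab]
  rcases a with _ | a <;> rcases b with _ | b
  · rfl
  · exfalso
    have h4 : (1 : F) = (b.1 ^ 2 - 1) / (b.1 ^ 2 + 1) := h1
    have h5 := key b
    rw [← h4, sub_self] at h5
    exact (div_ne_zero h2 b.2) h5.symm
  · exfalso
    have h4 : (a.1 ^ 2 - 1) / (a.1 ^ 2 + 1) = (1 : F) := h1
    have h5 := key a
    rw [h4, sub_self] at h5
    exact (div_ne_zero h2 a.2) h5.symm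
  · congr 1
    apply Subtype.ext
    have h4 : (a.1 ^ 2 - 1) / (a.1 ^ 2 + 1) = (b.1 ^ 2 - 1) / (b.1 ^ 2 + 1) := h1
    have h5 : 2 * a.1 / (a.1 ^ 2 + 1) = 2 * b.1 / (b.1 ^ 2 + 1) := h3
    rw [← key2 a, ← key2 b, h4] at h5
    refine mul_left_cancel₀ ?_ h5
    rw [key b]
    exact div_ne_zero h2 b.2

theorem circle_ge' (h2 : (2 : F) ≠ 0) (hsq : ∀ m : F, m ^ 2 + 1 ≠ 0) : Nat.card F + 1 ≤ Nat.card (Circ F) := by
  have h1 := Nat.card_le_card_of_injective _ (par_inj h2)
  have h3 : Nat.card (Option {m : F // m ^ 2 + 1 ≠ 0}) = Nat.card F + 1 := by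
    rw [Finite.card_option, Nat.card_congr (Equiv.subtypeUnivEquiv hsq)]
  rwa [h3] at h1

theorem circle_ge (h2 : (2 : F) ≠ 0) : Nat.card F - 1 ≤ Nat.card (Circ F) := by
  have h1 := Nat.card_le_card_of_injective _ (par_inj h2)
  rw [Finite.card_option] at h1
  have h3 : ({m : F | m ^ 2 + 1 = 0}).ncard ≤ 2 := by
    by_cases hne : ∃ i : F, i ^ 2 + 1 = 0
    · obtain ⟨i, hi⟩ := hne
      have : {m : F | m ^ 2 + 1 = 0} ⊆ {i, -i} := by
        intro m hm
        have h4 : (m - i) * (m + i) = 0 := by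
          have hm' : m ^ 2 + 1 = 0 := hm
          linear_combination hm' - hi
        rcases mul_eq_zero.1 h4 with h5 | h5
        · left; exact sub_eq_zero.1 h5
        · right; exact eq_neg_of_add_eq_zero_left h5
      exact le_trans (Set.ncard_le_ncard this (Set.toFinite _)) (Set.ncard_insert_le _ _ |>.trans (by
        rw [Set.ncard_singleton]))
    · have : {m : F | m ^ 2 + 1 = 0} = ∅ := by
        ext m
        exact ⟨fun h => (hne ⟨m, h⟩).elim, fun h => h.elim⟩
      rw [this, Set.ncard_empty]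
      omega
  have h4 : Nat.card {m : F // m ^ 2 + 1 ≠ 0} + ({m : F | m ^ 2 + 1 = 0}).ncard = Nat.card F := by
    have h5 : Nat.card {m : F // m ^ 2 + 1 ≠ 0} = ({m : F | m ^ 2 + 1 = 0}ᶜ).ncard := rfl
    rw [h5, add_comm]
    exact Set.ncard_add_ncard_compl _
  omega

end circle

section

variable {F V : Type*} [Field F] [AddCommGroup V] [Module F V] {B : V →ₗ[F] V →ₗ[F] F}

local notation "SL2" => Matrix.SpecialLinearGroup (Fin 2)

theorem conj_sl (hB : Symp B) {v v' : V} (h : B v v' = 1) (k : Sp B) (h' : B (k • v) (k • v') = 1) (g : SL2 F) :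
    k * sl hB h g * k⁻¹ = sl hB h' g := by
  apply Sp.ext'
  intro x
  rw [mul_smul, mul_smul, sl_smul, sl_smul]
  simp only [smul_add', smul_fsmul, smul_inv_smul, B_inv_left]
  rw [B_smul_left k v x]

/-- the pair `j v`, `j v'` -/
structure Pair (j : Sp B) (v v' : V) : Prop where
  h : B v v' = 1
  h1 : B v (j • v) = 0
  h2 : B v (j • v') = 0
  h3 : B v' (j • v) = 0
  h4 : B v' (j • v') = 0

theorem Pair.hj {j : Sp B} {v v' : V} (P : Pair j v v') : B (j • v) (j • v') = 1 := by
  rw [B_smul_smul, P.h]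

/-- `SL₂` in the centraliser of `j` -/
noncomputable def lam (hB : Symp B) {j : Sp B} {v v' : V} (P : Pair j v v') : SL2 F →* Sp B :=
  MonoidHom.mk' (fun g => sl hB P.h g * sl hB P.hj g) (fun g k => by
    have h1 := sl_comm hB P.h P.hj P.h1 P.h2 P.h3 P.h4 k g
    rw [map_mul, map_mul]
    calc sl hB P.h g * sl hB P.h k * (sl hB P.hj g * sl hB P.hj k)
        = sl hB P.h g * (sl hB P.h k * sl hB P.hj g) * sl hB P.hj k := by group
      _ = _ := by rw [h1]; group)

theorem lam_apply (hB : Symp B) {j : Sp B} {v v' : V} (P : Pair j v v') (g : SL2 F) :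
    lam hB P g = sl hB P.h g * sl hB P.hj g := rfl

theorem lam_v (hB : Symp B) {j : Sp B} {v v' : V} (P : Pair j v v') (g : SL2 F) :
    lam hB P g • v = g 0 0 • v + g 1 0 • v' := by
  rw [lam_apply, mul_smul, sl_orth hB P.hj g (orth_symm hB P.h1) (orth_symm hB P.h2), sl_v]

theorem lam_v' (hB : Symp B) {j : Sp B} {v v' : V} (P : Pair j v v') (g : SL2 F) :
    lam hB P g • v' = g 0 1 • v + g 1 1 • v' := by
  rw [lam_apply, mul_smul, sl_orth hB P.hj g (orth_symm hB P.h3) (orth_symm hB P.h4), sl_v']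

/-- `lam` commutes with `j` -/
theorem lam_comm (hB : Symp B) {j : Sp B} (hj : j * j = negOne B) {v v' : V} (P : Pair j v v') (g : SL2 F) :
    j * lam hB P g = lam hB P g * j := by
  have hjj := sq_iff.1 hj
  have h2 : B (j • j • v) (j • j • v') = 1 := by rw [B_smul_smul, P.hj]
  have e1 := conj_sl hB P.h j P.hj g
  have e2 := conj_sl hB P.hj j h2 g
  have e3 : sl hB h2 g = sl hB P.h g := by
    apply Sp.ext'
    intro x
    rw [sl_smul, sl_smul, hjj, hjj]
    simp only [map_neg, LinearMap.neg_apply]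
    module
  have e4 := sl_comm hB P.h P.hj P.h1 P.h2 P.h3 P.h4 g g
  rw [e3] at e2
  rw [lam_apply]
  calc j * (sl hB P.h g * sl hB P.hj g) = (j * sl hB P.h g * j⁻¹) * (j * sl hB P.hj g * j⁻¹) * j := by group
    _ = (sl hB P.hj g * sl hB P.h g) * j := by rw [e1, e2]
    _ = _ := by rw [e4]

/-- rotations -/
noncomputable def rot (hB : Symp B) {j : Sp B} (hj : j * j = negOne B) (p : Circ F) : Sp B :=
  ⟨LinearEquiv.ofLinearMap (p.1.1 • LinearMap.id + p.1.2 • ((j : V ≃ₗ[F] V) : V →ₗ[F] V))
      (p.1.1 • LinearMap.id - p.1.2 • ((j : V ≃ₗ[F] V) : V →ₗ[F] V))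
      (by
        apply LinearMap.ext
        intro x
        have hjj : (j : V ≃ₗ[F] V) ((j : V ≃ₗ[F] V) x) = -x := sq_iff.1 hj x
        have hp := p.2
        simp only [LinearMap.comp_apply, LinearMap.add_apply, LinearMap.sub_apply, LinearMap.smul_apply,
          LinearMap.id_apply, LinearEquiv.coe_coe, map_sub, map_smul, hjj]
        have : x = (p.1.1 ^ 2 + p.1.2 ^ 2) • x := by rw [hp, one_smul]
        conv_rhs => rw [this]
        module)
      (by
        apply LinearMap.ext
        intro x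
        have hjj : (j : V ≃ₗ[F] V) ((j : V ≃ₗ[F] V) x) = -x := sq_iff.1 hj x
        have hp := p.2
        simp only [LinearMap.comp_apply, LinearMap.add_apply, LinearMap.sub_apply, LinearMap.smul_apply,
          LinearMap.id_apply, LinearEquiv.coe_coe, map_add, map_smul, hjj]
        have : x = (p.1.1 ^ 2 + p.1.2 ^ 2) • x := by rw [hp, one_smul]
        conv_rhs => rw [this]
        module), by
    intro x y
    change B (p.1.1 • x + p.1.2 • (j • x)) (p.1.1 • y + p.1.2 • (j • y)) = B x y
    have h1 : B (j • x) y = -B x (j • y) := by rw [sym hB hj, skew hB]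
    have hp := p.2
    simp only [map_add, LinearMap.map_smul, LinearMap.add_apply, LinearMap.smul_apply, smul_eq_mul, B_smul_smul, h1]
    linear_combination B x y * hp⟩

theorem rot_smul (hB : Symp B) {j : Sp B} (hj : j * j = negOne B) (p : Circ F) (x : V) :
    rot hB hj p • x = p.1.1 • x + p.1.2 • (j • x) := rfl

theorem rot_comm (hB : Symp B) {j : Sp B} (hj : j * j = negOne B) (p : Circ F) :
    j * rot hB hj p = rot hB hj p * j := by
  apply Sp.ext'
  intro x
  rw [mul_smul, mul_smul, rot_smul, rot_smul, smul_add', smul_fsmul, smul_fsmul]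

end

section

variable {F V : Type*} [Field F] [Finite F] [AddCommGroup V] [Module F V] [Finite V] {B : V →ₗ[F] V →ₗ[F] F}

local notation "SL2" => Matrix.SpecialLinearGroup (Fin 2)

theorem exists_Pair (hB : Symp B) (h2 : (2 : F) ≠ 0) (hV : Nat.card V = Nat.card F ^ 4) {j : Sp B}
    (hj : j * j = negOne B) : ∃ v v' : V, Pair j v v' := by
  obtain ⟨v, v', h, h1, h2', h3⟩ := exists_pair hB h2 hV hj
  exact ⟨v, v', h, h1, h2', by rw [sym hB hj]; exact h2', h3⟩

/-- **The centraliser of `j` in `Sp B`.** -/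
theorem card_cent (hB : Symp B) (h2 : (2 : F) ≠ 0) {j : Sp B} (hj : j * j = negOne B) {v v' : V} (P : Pair j v v') :
    Nat.card (SL2 F) * Nat.card (Circ F) ≤ 2 * Nat.card (centralizer ({j} : Set (Sp B))) := by
  classical
  let lo : LinearOrder (SL2 F) := linearOrderOfSTO WellOrderingRel
  let s : SL2 F → Bool := fun g => decide (g < -g)
  have hs : ∀ g : SL2 F, s (-g) ≠ s g := by
    intro g
    have hne : g ≠ -g := by
      intro h
      apply neg_one_ne h2
      have h3 : (-1 : SL2 F) * g = 1 * g := by rw [neg_mul, one_mul, ← h]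
      exact mul_right_cancel h3
    simp only [s, neg_neg]
    rcases lt_or_gt_of_ne hne with h | h
    · simp [h, h.le, not_lt_of_gt h]
    · simp [h, h.le, not_lt_of_gt h]
  let C0 := centralizer ({j} : Set (Sp B))
  let f : SL2 F × Circ F → C0 × Bool := fun p => (⟨lam hB P p.1 * rot hB hj p.2, by
    show _ ∈ centralizer ({j} : Set (Sp B))
    rw [mem_centralizer_singleton_iff]
    have e1 := lam_comm hB hj P p.1
    have e2 := rot_comm hB hj p.2
    rw [mul_assoc, ← e2, ← mul_assoc, ← e1, mul_assoc]⟩, s p.1)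
  have hf : Function.Injective f := by
    rintro ⟨g, p⟩ ⟨g', p'⟩ he
    have e1 : lam hB P g * rot hB hj p = lam hB P g' * rot hB hj p' :=
      congrArg (fun x => (x.1 : Sp B)) he
    have e2 : s g = s g' := congrArg Prod.snd he
    have e3 : lam hB P (g'⁻¹ * g) * rot hB hj p = rot hB hj p' := by
      rw [map_mul, map_inv, mul_assoc, e1, inv_mul_cancel_left]
    set k : SL2 F := g'⁻¹ * g with hk
    have hj1 : B (j • v) v' = 0 := orth_symm hB P.h3
    have e4 : lam hB P k • j • v = j • lam hB P k • v := by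
      rw [← mul_smul, ← lam_comm hB hj P k, mul_smul]
    have e4' : lam hB P k • j • v' = j • lam hB P k • v' := by
      rw [← mul_smul, ← lam_comm hB hj P k, mul_smul]
    have e5 := congrArg (fun x : Sp B => x • v) e3
    have e6 := congrArg (fun x : Sp B => x • v') e3
    simp only [mul_smul, rot_smul, smul_add', smul_fsmul, e4, e4', lam_v, lam_v'] at e5 e6
    have hv'v : B v' v = -1 := by rw [skew hB, P.h]
    have hjv'v : B (j • v') v = 0 := orth_symm hB P.h2
    have hjv'v' : B (j • v') v' = 0 := orth_symm hB P.h4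
    -- coefficients
    have c1 := congrArg (fun x => B x v') e5
    have c2 := congrArg (fun x => B v x) e5
    have c3 := congrArg (fun x => B x (j • v')) e5
    have c4 := congrArg (fun x => B (j • v) x) e5
    have c5 := congrArg (fun x => B x v') e6
    have c6 := congrArg (fun x => B v x) e6
    have c7 := congrArg (fun x => B x (j • v')) e6
    have c8 := congrArg (fun x => B (j • v) x) e6
    simp only [map_add, LinearMap.map_smul, LinearMap.add_apply, LinearMap.smul_apply, smul_eq_mul, hB.alt, P.h,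
      P.h1, P.h2, P.h3, P.h4, P.hj, hj1, hv'v, hjv'v, hjv'v', orth_symm hB P.h1, mul_one, mul_zero, add_zero,
      zero_add] at c1 c2 c3 c4 c5 c6 c7 c8
    -- `p = (x, y)`, `p' = (x', y')`: `k x = x'`, `k y = y'`
    have hp := p.2
    have hp' := p'.2
    have hk10 : k 1 0 = 0 := by
      have : k 1 0 * (p.1.1 ^ 2 + p.1.2 ^ 2) = 0 := by linear_combination p.1.1 * c2 + p.1.2 * c4
      rwa [hp, mul_one] at this
    have hk01 : k 0 1 = 0 := by
      have : k 0 1 * (p.1.1 ^ 2 + p.1.2 ^ 2) = 0 := by linear_combination p.1.1 * c5 + p.1.2 * c7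
      rwa [hp, mul_one] at this
    have hkk : k 0 0 = k 1 1 := by
      have : (k 0 0 - k 1 1) * (p.1.1 ^ 2 + p.1.2 ^ 2) = 0 := by
        linear_combination p.1.1 * c1 + p.1.2 * c3 - p.1.1 * c6 - p.1.2 * c8
      rw [hp, mul_one] at this
      exact sub_eq_zero.1 this
    have hd := det_eq k
    rw [hk10, hkk, mul_zero, sub_zero] at hd
    rcases sq1_cases hd with h11 | h11
    · have hk1 : k = 1 := by
        apply sl_ext <;> rw [sl_one_apply] <;> simp [hk10, hk01, hkk, h11]
      have hg : g = g' := by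
        rw [hk, inv_mul_eq_one] at hk1
        exact hk1.symm
      rw [hg]
      congr 1
      apply Subtype.ext
      rw [hk1] at c1 c3
      simp only [sl_one_apply, if_true] at c1 c3
      exact Prod.ext (by linear_combination c1) (by linear_combination c3)
    · exfalso
      have hk1 : k = -1 := by
        apply sl_ext <;> rw [sl_neg_apply, sl_one_apply] <;> simp [hk10, hk01, hkk, h11]
      have hg : g = -g' := by
        rw [hk, inv_mul_eq_iff_eq_mul] at hk1
        rw [hk1, mul_neg, mul_one]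
      rw [hg] at e2
      exact hs g' e2
  have h3 := Nat.card_le_card_of_injective f hf
  rw [Nat.card_prod, Nat.card_prod, Nat.card_eq_fintype_card (α := Bool), Fintype.card_bool] at h3
  rw [mul_comm 2]
  exact h3

variable {T : Type*} [Group T] [Finite T] {π : Sp B →* T}

theorem Ctx.card_T (C : Ctx π) : Nat.card (Sp B) = 2 * Nat.card T := by
  classical
  have h1 : Nat.card π.ker = 2 := by
    have h3 : (π.ker : Set (Sp B)) = {1, negOne B} := by
      ext g
      constructor
      · intro hg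
        exact C.ker g hg
      · rintro (rfl | rfl)
        · exact map_one π
        · exact C.neg
    have h4 : Nat.card π.ker = (π.ker : Set (Sp B)).ncard := rfl
    rw [h4, h3, Set.ncard_pair C.negOne_ne.symm]
  have h3 := Subgroup.card_eq_card_quotient_mul_card_subgroup π.ker
  rw [h1, Nat.card_congr (QuotientGroup.quotientKerEquivOfSurjective π C.surj).toEquiv] at h3
  rw [h3, mul_comm]

theorem Ctx.card_comap (C : Ctx π) (X : Subgroup T) : Nat.card (X.comap π) = 2 * Nat.card X := by
  have h1 := (X.comap π).index_mul_card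
  have h3 := X.index_mul_card
  rw [index_comap_of_surjective X C.surj, C.card_T, ← h3] at h1
  have h4 : 0 < X.index := Nat.pos_of_ne_zero index_ne_zero_of_finite
  apply Nat.eq_of_mul_eq_mul_left h4
  rw [h1]
  ring

/-- the reflection `inv2 B v v'` inverts `j` -/
theorem inv2_j (hB : Symp B) (hV : Nat.card V = Nat.card F ^ 4) {j : Sp B} (hj : j * j = negOne B) {v v' : V}
    (P : Pair j v v') : inv2 B v v' * j = negOne B * (j * inv2 B v v') := by
  have hjj := sq_iff.1 hj
  have hv' : inv2 B v v' • v' = v' := by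
    rw [inv2_smul hB P.h, hB.alt, skew hB v' v, P.h]
    module
  have e1 := inv2_orth hB P.h P.h1 P.h3
  have e2 := inv2_orth hB P.h P.h2 P.h4
  apply Sp.ext'
  intro z
  obtain ⟨a, b, c, d, rfl⟩ := four hB hV P.h P.hj P.h1 P.h2 P.h3 P.h4 z
  simp only [mul_smul, smul_add', smul_fsmul, inv2_v hB P.h, hv', e1, e2, hjj, smul_neg', negOne_smul]
  generalize j • v = u
  generalize j • v' = u'
  module

/-- **The centraliser of an involution of type `t₂`.** -/
theorem Ctx.card_centralizer_j (C : Ctx π) {j : Sp B} (hj : j * j = negOne B) :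
    Nat.card F * (Nat.card F ^ 2 - 1) * Nat.card (Circ F) ≤ 2 * Nat.card (centralizer ({π j} : Set T)) := by
  classical
  obtain ⟨v, v', P⟩ := exists_Pair C.hB C.h2 C.hV hj
  rw [← card_sl2, ← C.card_comap]
  refine le_trans (card_cent C.hB C.h2 hj P) ?_
  set C0 := centralizer ({j} : Set (Sp B)) with hC0
  set C1 := (centralizer ({π j} : Set T)).comap π with hC1
  have hle : C0 ≤ C1 := by
    intro x hx
    rw [hC0, mem_centralizer_singleton_iff] at hx
    rw [hC1, mem_comap, mem_centralizer_singleton_iff, ← map_mul, hx, map_mul]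
  have hr1 : inv2 B v v' ∈ C1 := by
    rw [hC1, mem_comap, mem_centralizer_singleton_iff, ← map_mul, inv2_j C.hB C.hV hj P, map_mul, C.neg, one_mul,
      map_mul]
  have hr0 : inv2 B v v' ∉ C0 := by
    intro h
    rw [hC0, mem_centralizer_singleton_iff, inv2_j C.hB C.hV hj P] at h
    exact C.negOne_ne (mul_eq_right.1 h)
  have h3 : 1 < C0.relIndex C1 := by
    rcases Nat.lt_or_ge 1 (C0.relIndex C1) with h | h
    · exact h
    · exfalso
      have h4 : C0.relIndex C1 ≠ 0 := by
        rw [relIndex]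
        exact index_ne_zero_of_finite
      have h5 : C0.relIndex C1 = 1 := by omega
      exact hr0 (relIndex_eq_one.1 h5 hr1)
  have h4 : C0.relIndex C1 * Nat.card C0 = Nat.card C1 := by
    have h5 := relIndex_mul_relIndex (⊥ : Subgroup (Sp B)) C0 C1 bot_le hle
    rw [relIndex_bot_left, relIndex_bot_left] at h5
    rw [mul_comm]
    exact h5
  calc 2 * Nat.card C0 ≤ C0.relIndex C1 * Nat.card C0 := Nat.mul_le_mul_right _ h3
    _ = _ := h4

/-- helper172's `hcen` -/
theorem Ctx.hcen (C : Ctx π) {j : Sp B} (hj : j * j = negOne B) :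
    Nat.card F * (Nat.card F ^ 2 - 1) * (Nat.card F - 1) ≤ 2 * Nat.card (centralizer ({π j} : Set T)) :=
  le_trans (Nat.mul_le_mul_left _ (circle_ge C.h2)) (C.card_centralizer_j hj)

end

end Cfsg.Agent.H804.P4
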