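import Cfsg.Agent.H804.IF.P4J

/-!
# S5719, `PSp_4(q)`, `q` odd: the centraliser of a quaternion group (helper804)

`i² = j² = -1`, `i j = - j i`: at most `2(q+1)` elements of `Sp B` commute with `i` and `j`.
-/

set_option autoImplicit false
set_option linter.unusedSectionVars false
set_option linter.unusedSimpArgs false

namespace Cfsg.Agent.H804.P4

open Subgroup Module Cfsg.Agent.H74.Psp Cfsg.Agent.H209.Fxy

section conic

variable {F : Type*} [Field F] [Finite F]

/-- a conic `α x² + β y² = α` has at most `q + 1` points -/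
theorem conic_le (h2 : (2 : F) ≠ 0) {α β : F} (hα : α ≠ 0) (hβ : β ≠ 0) :
    Nat.card {p : F × F // α * p.1 ^ 2 + β * p.2 ^ 2 = α} ≤ Nat.card F + 1 := by
  classical
  let f : {p : F × F // α * p.1 ^ 2 + β * p.2 ^ 2 = α} → Option F := fun p =>
    if p.1 = (1, 0) then none else some (p.1.2 / (p.1.1 - 1))
  have hx : ∀ p : {p : F × F // α * p.1 ^ 2 + β * p.2 ^ 2 = α}, p.1 ≠ (1, 0) → p.1.1 - 1 ≠ 0 := by
    intro p hp h1
    have h4 : p.1.1 = 1 := sub_eq_zero.1 h1
    have h5 := p.2
    rw [h4] at h5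
    have h6 : β * p.1.2 ^ 2 = 0 := by linear_combination h5
    have h7 : p.1.2 = 0 := by
      rcases mul_eq_zero.1 h6 with h | h
      · exact absurd h hβ
      · exact (pow_eq_zero_iff two_ne_zero).1 h
    exact hp (Prod.ext h4 h7)
  have hm : ∀ p : {p : F × F // α * p.1 ^ 2 + β * p.2 ^ 2 = α}, ∀ hp : p.1 ≠ (1, 0), ∀ m : F,
      p.1.2 = m * (p.1.1 - 1) → p.1.1 * (β * m ^ 2 + α) = β * m ^ 2 - α := by
    intro p hp m hm
    have h5 := p.2
    rw [hm] at h5
    have h6 : (p.1.1 - 1) * (p.1.1 * (β * m ^ 2 + α) - (β * m ^ 2 - α)) = 0 := by linear_combination h5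
    have h7 := (mul_eq_zero.1 h6).resolve_left (hx p hp)
    exact sub_eq_zero.1 h7
  have hf : Function.Injective f := by
    intro p p' he
    by_cases hp : p.1 = (1, 0)
    · by_cases hp' : p'.1 = (1, 0)
      · exact Subtype.ext (hp.trans hp'.symm)
      · simp [f, hp, hp'] at he
    · by_cases hp' : p'.1 = (1, 0)
      · simp [f, hp, hp'] at he
      · have he' : p.1.2 / (p.1.1 - 1) = p'.1.2 / (p'.1.1 - 1) := by
          simpa [f, hp, hp'] using he
        set m : F := p.1.2 / (p.1.1 - 1) with hmd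
        have e1 : p.1.2 = m * (p.1.1 - 1) := by rw [hmd, div_mul_cancel₀ _ (hx p hp)]
        have e2 : p'.1.2 = m * (p'.1.1 - 1) := by rw [he', div_mul_cancel₀ _ (hx p' hp')]
        have e3 := hm p hp m e1
        have e4 := hm p' hp' m e2
        have e5 : β * m ^ 2 + α ≠ 0 := by
          intro h0
          rw [h0, mul_zero] at e3
          have h3 : (2 : F) * α = 0 := by linear_combination h0 + e3
          exact (mul_ne_zero h2 hα) h3
        have e6 : p.1.1 = p'.1.1 := mul_right_cancel₀ e5 (e3.trans e4.symm)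
        apply Subtype.ext
        exact Prod.ext e6 (by rw [e1, e2, e6])
  have h3 := Nat.card_le_card_of_injective f hf
  rwa [Finite.card_option] at h3

end conic

section

variable {F V : Type*} [Field F] [AddCommGroup V] [Module F V] {B : V →ₗ[F] V →ₗ[F] F}

/-- `a i + b i j` -/
def En (i j : Sp B) (a b : F) (z : V) : V := a • (i • z) + b • (i • j • z)

variable {i j : Sp B} (hi : i * i = negOne B) (hj : j * j = negOne B) (hij : ∀ x : V, i • j • x = -(j • i • x))
  {a b : F}

include hi hj hij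

theorem En_En (hab : a ^ 2 + b ^ 2 = -1) (z : V) : En i j a b (En i j a b z) = z := by
  have hii := sq_iff.1 hi
  have hjj := sq_iff.1 hj
  have e1 : i • j • i • z = j • z := by rw [hij (i • z), hii, smul_neg', neg_neg]
  have e2 : i • j • i • j • z = -z := by rw [hij (i • j • z), hii, smul_neg', neg_neg, hjj]
  simp only [En, smul_add', smul_fsmul, hii, e1, e2]
  generalize j • z = u
  have e3 : z = -((a ^ 2 + b ^ 2) • z) := by rw [hab, neg_one_smul, neg_neg]
  conv_rhs => rw [e3]
  module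

theorem En_j (z : V) : En i j a b (j • z) = -(j • En i j a b z) := by
  have hjj := sq_iff.1 hj
  have e1 : j • i • z = -(i • j • z) := by rw [hij, neg_neg]
  have e2 : j • i • j • z = i • z := by
    have := hij (j • z)
    rw [hjj, smul_neg'] at this
    exact (neg_injective this).symm
  simp only [En, smul_add', smul_fsmul, hjj, e1, e2, smul_neg']
  generalize i • j • z = u
  generalize i • z = w
  module

theorem En_B (hB : Symp B) (x y : V) : B (En i j a b x) y = -B x (En i j a b y) := by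
  have h1 : ∀ x y : V, B (i • x) y = -B x (i • y) := fun x y => by rw [sym hB hi, skew hB]
  have h2 : ∀ x y : V, B (j • x) y = -B x (j • y) := fun x y => by rw [sym hB hj, skew hB]
  simp only [En, map_add, LinearMap.map_smul, LinearMap.add_apply, LinearMap.smul_apply, smul_eq_mul, h1, h2]
  have e1 : j • i • y = -(i • j • y) := by rw [hij, neg_neg]
  rw [e1, map_neg]
  ring

theorem En_iso (hB : Symp B) (h2 : (2 : F) ≠ 0) {x y : V} (hx : En i j a b x = x) (hy : En i j a b y = y) :
    B x y = 0 := by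
  have h1 := En_B hi hj hij (a := a) (b := b) hB x y
  rw [hx, hy] at h1
  have h3 : (2 : F) * B x y = 0 := by linear_combination h1
  exact (mul_eq_zero.1 h3).resolve_left h2

omit hi hj hij in
theorem En_add (x y : V) : En i j a b (x + y) = En i j a b x + En i j a b y := by
  simp only [En, smul_add', smul_add]
  abel

omit hi hj hij in
theorem En_smul (c : F) (x : V) : En i j a b (c • x) = c • En i j a b x := by
  simp only [En, smul_fsmul, smul_add]
  rw [smul_comm a c, smul_comm b c]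

omit hi hj hij in
theorem En_comm {g : Sp B} (h1 : g * i = i * g) (h2 : g * j = j * g) (x : V) :
    En i j a b (g • x) = g • En i j a b x := by
  have e1 : ∀ x : V, g • i • x = i • g • x := fun x => by rw [← mul_smul, h1, mul_smul]
  have e2 : ∀ x : V, g • j • x = j • g • x := fun x => by rw [← mul_smul, h2, mul_smul]
  simp only [En, smul_add', smul_fsmul, e1, e2]

/-- a vector `w` with `E w = w`, `B w (j w) ≠ 0` in a subspace -/
theorem exists_w (hB : Symp B) (h2 : (2 : F) ≠ 0) (hab : a ^ 2 + b ^ 2 = -1) (K : Set V)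
    (hadd : ∀ x ∈ K, ∀ y ∈ K, x + y ∈ K) (hneg : ∀ x ∈ K, -x ∈ K) (hjK : ∀ x ∈ K, j • x ∈ K)
    (hEK : ∀ x ∈ K, En i j a b x ∈ K) (hne : ∃ x ∈ K, x ≠ 0) (hnd : ∀ x ∈ K, x ≠ 0 → ∃ y ∈ K, B x y = 1) :
    ∃ w ∈ K, En i j a b w = w ∧ B w (j • w) ≠ 0 := by
  have hjj := sq_iff.1 hj
  obtain ⟨x, hx, hx0⟩ := hne
  obtain ⟨x1, hx1, hx10, hEx1⟩ : ∃ x1 ∈ K, x1 ≠ 0 ∧ En i j a b x1 = x1 := by
    by_cases h : x + En i j a b x = 0
    · refine ⟨j • x, hjK x hx, (smul_ne_zero_iff_ne j).2 hx0, ?_⟩
      rw [En_j hi hj hij, eq_neg_of_add_eq_zero_right h, smul_neg', neg_neg]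
    · refine ⟨_, hadd _ hx _ (hEK x hx), h, ?_⟩
      rw [En_add, En_En hi hj hij hab, add_comm]
  obtain ⟨y, hy, hxy⟩ := hnd x1 hx1 hx10
  set ym : V := y + -(En i j a b y) with hym
  have hymK : ym ∈ K := hadd _ hy _ (hneg _ (hEK y hy))
  have hEneg : ∀ z : V, En i j a b (-z) = -(En i j a b z) := fun z => by
    rw [← neg_one_smul F z, En_smul, neg_one_smul]
  have hEym : En i j a b ym = -ym := by
    rw [hym, En_add, hEneg, En_En hi hj hij hab, neg_add, neg_neg, add_comm]
  have hyp : B x1 (y + En i j a b y) = 0 := by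
    apply En_iso hi hj hij hB h2 hEx1
    rw [En_add, En_En hi hj hij hab, add_comm]
  have hBym : B x1 ym = 2 := by
    rw [map_add, hxy] at hyp
    rw [hym, map_add, map_neg, hxy]
    linear_combination -hyp
  clear_value ym
  have hEw : En i j a b (-(j • ym)) = -(j • ym) := by
    rw [hEneg, En_j hi hj hij, hEym, smul_neg', neg_neg]
  obtain ⟨z, ⟨hzK, hzE⟩, hz⟩ := exists_noniso hB h2 hj {z : V | z ∈ K ∧ En i j a b z = z}
    (fun p hp r hr => ⟨hadd _ hp.1 _ hr.1, by rw [En_add, hp.2, hr.2]⟩)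
    (x := x1) (y := -(j • ym)) ⟨hx1, hEx1⟩ ⟨hneg _ (hjK _ hymK), hEw⟩
    (by rw [smul_neg', hjj, neg_neg, hBym]; exact h2)
  exact ⟨z, hzK, hzE, hz⟩

end

section

variable {F V : Type*} [Field F] [Finite F] [AddCommGroup V] [Module F V] [Finite V] {B : V →ₗ[F] V →ₗ[F] F}

/-- **The centraliser of a quaternion group.** -/
theorem card_quat (hB : Symp B) (h2 : (2 : F) ≠ 0) (hV : Nat.card V = Nat.card F ^ 4) {i j : Sp B}
    (hi : i * i = negOne B) (hj : j * j = negOne B) (hij : ∀ x : V, i • j • x = -(j • i • x)) :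
    Nat.card (centralizer ({i} : Set (Sp B)) ⊓ centralizer ({j} : Set (Sp B)) : Subgroup (Sp B)) ≤
      2 * (Nat.card F + 1) := by
  classical
  obtain ⟨a, b, hab⟩ := exists_two_sq h2 (-1 : F)
  have hjj := sq_iff.1 hj
  have hnt : Nontrivial V := by
    rw [← Finite.one_lt_card_iff_nontrivial, hV]
    exact Nat.one_lt_pow (by norm_num) Finite.one_lt_card
  obtain ⟨x0, hx0⟩ := exists_ne (0 : V)
  obtain ⟨w1, -, hE1, hα⟩ := exists_w hi hj hij hB h2 hab Set.univ (fun _ _ _ _ => trivial) (fun _ _ => trivial)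
    (fun _ _ => trivial) (fun _ _ => trivial) ⟨x0, trivial, hx0⟩ (fun x _ hx => by
      obtain ⟨y, hy⟩ := sep0 hB hx
      exact ⟨y, trivial, hy⟩)
  set α := B w1 (j • w1) with hαd
  have hp1 : B w1 (α⁻¹ • (j • w1)) = 1 := by rw [LinearMap.map_smul, smul_eq_mul, ← hαd, inv_mul_cancel₀ hα]
  have hproj : ∀ z : V, ∃ (u : V) (c d : F), z = u + (c • w1 + d • (α⁻¹ • (j • w1))) ∧ B w1 u = 0 ∧
      B (j • w1) u = 0 := by
    intro z
    obtain ⟨u, c, d, h3, h4, h5⟩ := decompV hB hp1 z
    refine ⟨u, c, d, h3, h4, ?_⟩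
    rw [LinearMap.map_smul, LinearMap.smul_apply, smul_eq_mul] at h5
    exact (mul_eq_zero.1 h5).resolve_left (inv_ne_zero hα)
  obtain ⟨w2, ⟨hw12, hjw12⟩, hE2, hβ⟩ := exists_w hi hj hij hB h2 hab {z : V | B w1 z = 0 ∧ B (j • w1) z = 0}
    (fun x hx y hy => ⟨by rw [map_add, hx.1, hy.1, add_zero], by rw [map_add, hx.2, hy.2, add_zero]⟩)
    (fun x hx => ⟨by rw [map_neg, hx.1, neg_zero], by rw [map_neg, hx.2, neg_zero]⟩)
    (fun x hx => ⟨by rw [sym hB hj, skew hB, hx.2, neg_zero], by rw [B_smul_smul, hx.1]⟩)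
    (fun x hx => ⟨by
        have h3 := En_B hi hj hij (a := a) (b := b) hB w1 x
        rw [hE1, hx.1] at h3
        exact neg_eq_zero.1 h3.symm, by
        have h3 := En_B hi hj hij (a := a) (b := b) hB (j • w1) x
        rw [En_j hi hj hij, hE1, map_neg, LinearMap.neg_apply, hx.2, neg_zero] at h3
        exact neg_eq_zero.1 h3.symm⟩)
    (by
      obtain ⟨y0, hy0⟩ : ∃ y0 : V, ∀ c d : F, y0 ≠ c • w1 + d • (α⁻¹ • (j • w1)) := by
        by_contra! hcon
        have hs : Function.Surjective (fun p : F × F => p.1 • w1 + p.2 • (α⁻¹ • (j • w1))) := by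
          intro z
          obtain ⟨c, d, hcd⟩ := hcon z
          exact ⟨(c, d), hcd.symm⟩
        have h3 := Nat.card_le_card_of_surjective _ hs
        rw [hV, Nat.card_prod, ← pow_two] at h3
        have h4 : Nat.card F ^ 2 < Nat.card F ^ 4 := Nat.pow_lt_pow_right Finite.one_lt_card (by norm_num)
        omega
      obtain ⟨u, c, d, h3, h4, h5⟩ := hproj y0
      refine ⟨u, ⟨h4, h5⟩, ?_⟩
      rintro rfl
      exact hy0 c d (by rw [h3, zero_add]))
    (by
      intro x hx hx0
      obtain ⟨y, hy⟩ := sep0 hB hx0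
      obtain ⟨u, c, d, h3, h4, h5⟩ := hproj y
      refine ⟨u, ⟨h4, h5⟩, ?_⟩
      rw [h3, map_add, map_add, LinearMap.map_smul, LinearMap.map_smul, LinearMap.map_smul, orth_symm hB hx.1,
        orth_symm hB hx.2, smul_zero, smul_zero, smul_zero, add_zero, add_zero] at hy
      exact hy)
  set β := B w2 (j • w2) with hβd
  have hp2 : B w2 (β⁻¹ • (j • w2)) = 1 := by rw [LinearMap.map_smul, smul_eq_mul, ← hβd, inv_mul_cancel₀ hβ]
  have hw1j2 : B w1 (j • w2) = 0 := by rw [sym hB hj, skew hB, hjw12, neg_zero]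
  have hw2j1 : B w2 (j • w1) = 0 := by rw [sym hB hj, hw1j2]
  have q1 : B w1 (β⁻¹ • (j • w2)) = 0 := by rw [LinearMap.map_smul, hw1j2, smul_zero]
  have q2 : B (α⁻¹ • (j • w1)) w2 = 0 := by rw [LinearMap.map_smul, LinearMap.smul_apply, hjw12, smul_zero]
  have q3 : B (α⁻¹ • (j • w1)) (β⁻¹ • (j • w2)) = 0 := by
    simp only [LinearMap.map_smul, LinearMap.smul_apply, B_smul_smul, hw12, smul_zero]
  have hfour := four hB hV hp1 hp2 hw12 q1 q2 q3
  have hw21 : B w2 w1 = 0 := orth_symm hB hw12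
  -- the fixed space of `E`
  have hspan : ∀ z : V, En i j a b z = z → z = (B z (j • w1) * α⁻¹) • w1 + (B z (j • w2) * β⁻¹) • w2 := by
    intro z hz
    obtain ⟨c1, c2, c3, c4, h3⟩ := hfour z
    have h4 := En_iso hi hj hij hB h2 hE1 hz
    have h5 := En_iso hi hj hij hB h2 hE2 hz
    have h6 : c2 = 0 := by
      rw [h3] at h4
      simp only [map_add, LinearMap.map_smul, hB.alt, hw12, hw1j2, smul_eq_mul, ← hαd, inv_mul_cancel₀ hα, mul_zero,
        mul_one, zero_add, add_zero] at h4
      exact h4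
    have h7 : c4 = 0 := by
      rw [h3] at h5
      simp only [map_add, LinearMap.map_smul, hB.alt, hw21, hw2j1, smul_eq_mul, ← hβd, inv_mul_cancel₀ hβ, mul_zero,
        mul_one, zero_add, add_zero] at h5
      exact h5
    have h8 : z = c1 • w1 + c3 • w2 := by
      rw [h3, h6, h7]
      simp
    have h9 : B z (j • w1) = c1 * α := by
      rw [h8]
      simp only [map_add, LinearMap.map_smul, LinearMap.add_apply, LinearMap.smul_apply, smul_eq_mul, hw2j1, ← hαd]
      ring
    have h10 : B z (j • w2) = c3 * β := by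
      rw [h8]
      simp only [map_add, LinearMap.map_smul, LinearMap.add_apply, LinearMap.smul_apply, smul_eq_mul, hw1j2, ← hβd]
      ring
    rw [h9, h10, mul_assoc, mul_assoc, mul_inv_cancel₀ hα, mul_inv_cancel₀ hβ, mul_one, mul_one]
    exact h8
  -- the form `B x (j y)` on the fixed space
  have hform : ∀ x y x' y' : F, B (x • w1 + y • w2) (j • (x' • w1 + y' • w2)) = α * x * x' + β * y * y' := by
    intro x y x' y'
    rw [smul_add', smul_fsmul, smul_fsmul]
    simp only [map_add, LinearMap.map_smul, LinearMap.add_apply, LinearMap.smul_apply, smul_eq_mul, hw2j1, hw1j2,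
      ← hαd, ← hβd]
    ring
  set C1 : Subgroup (Sp B) := centralizer ({i} : Set (Sp B)) ⊓ centralizer ({j} : Set (Sp B)) with hC1
  have hc : ∀ g : C1, (g : Sp B) * i = i * g ∧ (g : Sp B) * j = j * g := fun g =>
    ⟨mem_centralizer_singleton_iff.1 (mem_inf.1 g.2).1, mem_centralizer_singleton_iff.1 (mem_inf.1 g.2).2⟩
  have hgj : ∀ (g : C1) (x : V), (g : Sp B) • j • x = j • (g : Sp B) • x := fun g x => by
    rw [← mul_smul, (hc g).2, mul_smul]
  let X : C1 → F := fun g => B ((g : Sp B) • w1) (j • w1) * α⁻¹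
  let Y : C1 → F := fun g => B ((g : Sp B) • w1) (j • w2) * β⁻¹
  let X' : C1 → F := fun g => B ((g : Sp B) • w2) (j • w1) * α⁻¹
  let Y' : C1 → F := fun g => B ((g : Sp B) • w2) (j • w2) * β⁻¹
  have hg1 : ∀ g : C1, (g : Sp B) • w1 = X g • w1 + Y g • w2 := fun g =>
    hspan _ (by rw [En_comm (hc g).1 (hc g).2, hE1])
  have hg2 : ∀ g : C1, (g : Sp B) • w2 = X' g • w1 + Y' g • w2 := fun g =>
    hspan _ (by rw [En_comm (hc g).1 (hc g).2, hE2])
  have r1 : ∀ g : C1, α * X g * X g + β * Y g * Y g = α := by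
    intro g
    rw [← hform, ← hg1, ← hgj, B_smul_smul, ← hαd]
  have r2 : ∀ g : C1, α * X g * X' g + β * Y g * Y' g = 0 := by
    intro g
    rw [← hform, ← hg1, ← hg2, ← hgj, B_smul_smul, hw1j2]
  have r3 : ∀ g : C1, α * X' g * X' g + β * Y' g * Y' g = β := by
    intro g
    rw [← hform, ← hg2, ← hgj, B_smul_smul, ← hβd]
  clear_value X Y X' Y'
  have hpm : ∀ g : C1, (X' g = -(β * Y g * α⁻¹) ∧ Y' g = X g) ∨ (X' g = β * Y g * α⁻¹ ∧ Y' g = -X g) := by
    intro g
    set δ := X g * Y' g - Y g * X' g with hδ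
    have s1 : α * X' g + β * Y g * δ = 0 := by
      rw [hδ]
      linear_combination -(X' g) * r1 g + X g * r2 g
    have s2 : Y' g = X g * δ := by
      have : α * (Y' g - X g * δ) = 0 := by
        rw [hδ]
        linear_combination -(Y' g) * r1 g + Y g * r2 g
      exact sub_eq_zero.1 ((mul_eq_zero.1 this).resolve_left hα)
    have s1' : X' g = -(β * Y g * δ * α⁻¹) := by
      field_simp
      linear_combination s1
    have s3 : δ * δ = 1 := by
      have h3 := r3 g
      have h4 : α * (α * X' g * X' g + β * Y' g * Y' g) = α * β := by rw [h3]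
      have h5 : α * X' g = -(β * Y g * δ) := by linear_combination s1
      have h6 : α * β * (δ * δ - 1) = 0 := by
        have h7 : (α * X' g) * (α * X' g) + α * β * (Y' g * Y' g) = α * β := by linear_combination h4
        rw [h5, s2] at h7
        linear_combination h7 - β * δ * δ * r1 g
      have h7 := (mul_eq_zero.1 h6).resolve_left (mul_ne_zero hα hβ)
      linear_combination h7
    rcases Cfsg.Agent.ClassicalGeometry.SL2Borel.sq1_cases s3 with h3 | h3
    · left
      rw [h3, mul_one] at s1' s2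
      exact ⟨s1', s2⟩
    · right
      rw [h3] at s1' s2
      exact ⟨by rw [s1']; ring, by rw [s2]; ring⟩
  let f : C1 → {p : F × F // α * p.1 ^ 2 + β * p.2 ^ 2 = α} × Bool := fun g =>
    (⟨(X g, Y g), by have := r1 g; linear_combination this⟩, decide (X' g = -(β * Y g * α⁻¹) ∧ Y' g = X g))
  have hf : Function.Injective f := by
    intro g g' he
    have e1 : X g = X g' := congrArg (fun p => p.1.1.1) he
    have e2 : Y g = Y g' := congrArg (fun p => p.1.1.2) he
    have e3 : (X' g = -(β * Y g * α⁻¹) ∧ Y' g = X g) ↔ (X' g' = -(β * Y g' * α⁻¹) ∧ Y' g' = X g') := by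
      have := congrArg Prod.snd he
      exact decide_eq_decide.1 this
    have e4 : X' g = X' g' ∧ Y' g = Y' g' := by
      by_cases h3 : X' g = -(β * Y g * α⁻¹) ∧ Y' g = X g
      · have h4 := e3.1 h3
        exact ⟨by rw [h3.1, h4.1, e2], by rw [h3.2, h4.2, e1]⟩
      · have h4 : ¬ (X' g' = -(β * Y g' * α⁻¹) ∧ Y' g' = X g') := fun h => h3 (e3.2 h)
        have h5 := (hpm g).resolve_left h3
        have h6 := (hpm g').resolve_left h4
        exact ⟨by rw [h5.1, h6.1, e2], by rw [h5.2, h6.2, e1]⟩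
    have f1 : (g : Sp B) • w1 = (g' : Sp B) • w1 := by rw [hg1, hg1, e1, e2]
    have f2 : (g : Sp B) • w2 = (g' : Sp B) • w2 := by rw [hg2, hg2, e4.1, e4.2]
    apply Subtype.ext
    apply Sp.ext'
    intro z
    obtain ⟨c1, c2, c3, c4, rfl⟩ := hfour z
    simp only [smul_add', smul_fsmul, hgj, f1, f2]
  have h3 := Nat.card_le_card_of_injective f hf
  rw [Nat.card_prod, Nat.card_eq_fintype_card (α := Bool), Fintype.card_bool] at h3
  have h4 := conic_le h2 hα hβ
  omega

end

end Cfsg.Agent.H804.P4
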